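import Groth.Agent.L03.ZetaCont.Main

/-!
Meromorphic continuation of the zeta function of an arithmetic scheme.
-/

set_option autoImplicit false
universe u

open AlgebraicGeometry CategoryTheory
open Groth.L11.Zeta (ptNorm norm' cweight two_le_ptNorm summable_ptNorm)

namespace Groth.L03.ZetaCont

theorem order_eq_neg_one {g : ℂ → ℂ} {c : ℂ} (hg : AnalyticAt ℂ g c) (hg0 : g c ≠ 0) :
    meromorphicOrderAt (fun s => g s / (s - c)) c = (-1 : ℤ) := by
  have hm : MeromorphicAt (fun s => g s / (s - c)) c :=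
    hg.meromorphicAt.div (analyticAt_id.sub analyticAt_const).meromorphicAt
  rw [meromorphicOrderAt_eq_int_iff hm]
  refine ⟨g, hg, hg0, Filter.Eventually.of_forall fun z => ?_⟩
  rw [zpow_neg_one, smul_eq_mul, mul_comm, ← div_eq_mul_inv]

theorem order_prod_neg {ι : Type*} [Fintype ι] [Nonempty ι] {H : ℂ → ℂ} {F : ι → ℂ → ℂ} {c : ℂ}
    (hH : AnalyticAt ℂ H c) (hH0 : H c ≠ 0) (hF : ∀ i, MeromorphicAt (F i) c)
    (ho : ∀ i, meromorphicOrderAt (F i) c = (-1 : ℤ)) : meromorphicOrderAt (H * ∏ i, F i) c < 0 := by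
  rw [meromorphicOrderAt_mul hH.meromorphicAt (MeromorphicAt.prod fun i _ => hF i),
    meromorphicOrderAt_prod fun i _ => hF i, hH.meromorphicOrderAt_eq,
    hH.analyticOrderAt_eq_zero.mpr hH0, ENat.map_zero]
  simp only [ho, Finset.sum_const, Finset.card_univ, WithTop.coe_zero, Nat.cast_zero, zero_add]
  rw [← WithTop.coe_nsmul]
  refine WithTop.coe_lt_coe.mpr ?_
  simp [Fintype.card_pos]

variable {X : Scheme.{u}} (f : X ⟶ Spec (CommRingCat.of (ULift.{u} ℤ))) [LocallyOfFiniteType f] [QuasiCompact f]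

include f in
/-- The zero dimensional case. -/
theorem continuation_zero (hr : topologicalKrullDim X = ((0 : ℕ) : WithBot ℕ∞)) :
    ∃ g : ℂ → ℂ, MeromorphicOn g Set.univ ∧ (∀ s : ℂ, 0 < s.re → g s = LSeries (Zeta.arithCoeff X) s) ∧
      meromorphicOrderAt g 0 < 0 := by
  classical
  haveI : CompactSpace X := QuasiCompact.compactSpace_of_compactSpace f
  haveI : IsNoetherianRing (ULift.{u} ℤ) := isNoetherianRing_of_ringEquiv ℤ (ULift.ringEquiv (R := ℤ)).symm
  haveI : IsLocallyNoetherian X := LocallyOfFiniteType.isLocallyNoetherian f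
  haveI : IsNoetherian X := {}
  have hfinC : (irreducibleComponents X).Finite := TopologicalSpace.NoetherianSpace.finite_irreducibleComponents
  -- every point is the only point of its component
  have hpt : ∀ x : X, closure ({x} : Set X) ∈ irreducibleComponents X := fun x => by
    obtain ⟨Y, hY, hle⟩ := exists_mem_irreducibleComponents_subset_of_isIrreducible _
      (isIrreducible_singleton (x := x)).closure
    let A : TopologicalSpace.IrreducibleCloseds X :=
      ⟨closure {x}, isIrreducible_singleton.closure, isClosed_closure⟩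
    let B : TopologicalSpace.IrreducibleCloseds X := ⟨Y, hY.1, isClosed_of_mem_irreducibleComponents Y hY⟩
    rcases (show A ≤ B from hle).eq_or_lt with heq | hlt
    · have : closure ({x} : Set X) = Y := congrArg (fun T : TopologicalSpace.IrreducibleCloseds X => (T : Set X)) heq
      rw [this]; exact hY
    · have := (Order.LTSeries.length_le_krullDim ((RelSeries.singleton _ A).snoc B hlt)).trans hr.le
      exact absurd (show (1 : ℕ) ≤ 0 by exact_mod_cast this) (by omega)
  haveI : Finite X := by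
    haveI := hfinC.to_subtype
    refine Finite.of_injective (fun x => (⟨closure {x}, hpt x⟩ : irreducibleComponents X)) fun x y h => ?_
    exact Inseparable.eq (inseparable_iff_closure_eq.mpr (congrArg Subtype.val h))
  haveI : Fintype (ClPt X) := Fintype.ofFinite _
  haveI : Nonempty (ClPt X) := by
    obtain ⟨l, -⟩ := Order.le_krullDim_iff.mp (le_of_eq hr.symm : ((0 : ℕ) : WithBot ℕ∞) ≤ topologicalKrullDim X)
    obtain ⟨z, -⟩ := l.head.isIrreducible.nonempty
    obtain ⟨c, -, hc⟩ := IsClosed.exists_closed_singleton (S := (Set.univ : Set X)) isClosed_univ ⟨z, trivial⟩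
    exact ⟨⟨c, hc⟩⟩
  set N := ptNorm X
  have hN2 : ∀ x, 2 ≤ N x := two_le_ptNorm f
  have hφ : ∀ x, Differentiable ℂ fun s => 1 - cweight N s x := fun x =>
    (differentiable_const _).sub (differentiable_cweight hN2 x)
  let F : ClPt X → ℂ → ℂ := fun x s => (1 - cweight N s x)⁻¹
  have hFm : ∀ x s, MeromorphicAt (F x) s := fun x s => ((hφ x).analyticAt s).meromorphicAt.inv
  have ho : ∀ x, meromorphicOrderAt (F x) 0 = (-1 : ℤ) := fun x => by
    have hne : (N x : ℂ) ≠ 0 := Nat.cast_ne_zero.mpr (by have := hN2 x; omega)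
    set φ : ℂ → ℂ := fun s => 1 - cweight N s x with hφdef
    have hd : Differentiable ℂ (dslope φ 0) := fun s =>
      ((Complex.differentiableOn_dslope (Filter.univ_mem (f := nhds (0 : ℂ)))).mpr (hφ x).differentiableOn).differentiableAt
        Filter.univ_mem
    have hd0 : dslope φ 0 0 ≠ 0 := by
      rw [dslope_same]
      have h : HasDerivAt φ (-((N x : ℂ) ^ (-(0 : ℂ)) * Complex.log (N x : ℂ) * (-1))) 0 :=
        (((hasDerivAt_id (0 : ℂ)).neg).const_cpow (Or.inl hne)).const_sub 1
      rw [h.deriv, neg_zero, Complex.cpow_zero, one_mul, mul_neg_one, neg_neg, ← Complex.natCast_log]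
      exact Complex.ofReal_ne_zero.mpr
        (Real.log_pos (by have := hN2 x; exact_mod_cast (by omega : 1 < N x))).ne'
    have e : F x = fun s => (dslope φ 0 s)⁻¹ / (s - 0) := funext fun s => by
      have e := sub_smul_dslope φ 0 s
      rw [show φ 0 = 0 by simp [hφdef, cweight], sub_zero, sub_zero, smul_eq_mul] at e
      change (φ s)⁻¹ = _
      rw [← e, sub_zero, mul_inv, div_eq_mul_inv, mul_comm]
    rw [e]
    exact order_eq_neg_one ((hd.analyticAt 0).inv hd0) (inv_ne_zero hd0)
  refine ⟨(fun _ => (1 : ℂ)) * ∏ x, F x, fun s _ => (MeromorphicAt.const 1 s).mul (MeromorphicAt.prod fun x _ => hFm x s),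
    fun s hs => ?_, order_prod_neg analyticAt_const one_ne_zero (fun x => hFm x 0) ho⟩
  have hsum : Summable fun x => (N x : ℝ) ^ (-s.re) := Summable.of_finite
  have hg : ∀ m, Zeta.arithCoeff X m = (Groth.L11.Zeta.count N m : ℂ) := fun m => by
    rw [Zeta.arithCoeff, Groth.L11.Zeta.cycleNormCount_eq]
  rw [(Groth.L11.Zeta.lseries_eq_tsum hN2 hs hsum le_rfl _ hg).2, tsum_eq_exp hN2 hs hsum le_rfl, tsum_fintype,
    Complex.exp_sum]
  simp only [Pi.mul_apply, Finset.prod_apply, one_mul, F]
  refine Finset.prod_congr rfl fun x _ => ?_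
  rw [Complex.exp_neg, Complex.exp_log]
  intro h
  have := norm_cweight_lt_one hN2 hs x
  rw [← sub_eq_zero.mp h, norm_one] at this
  exact lt_irrefl _ this

include f in
/-- Continuation with a pole at the dimension. -/
theorem exists_continuation_pole (r : ℕ) (hr : topologicalKrullDim X = (r : WithBot ℕ∞)) :
    ∃ ε : ℝ, 0 < ε ∧ ∃ g : ℂ → ℂ, MeromorphicOn g {s : ℂ | (r : ℝ) - ε < s.re} ∧
      (∀ s : ℂ, (r : ℝ) < s.re → g s = LSeries (Zeta.arithCoeff X) s) ∧
      meromorphicOrderAt g (r : ℂ) < 0 := by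
  classical
  rcases r with _ | n
  · obtain ⟨g, h1, h2, h3⟩ := continuation_zero f hr
    exact ⟨1, one_pos, g, fun s _ => h1 s trivial, fun s hs => h2 s (by simpa using hs), by simpa using h3⟩
  obtain ⟨a, H, S, _, b, ha, hH, hH0, hne, hb, hL, -⟩ := exists_decomposition f hr
  unfold HasPole at hb
  choose a' ha' h e hh he hh0 he0 hexp using hb
  haveI := hne
  set A : ℝ := Finset.univ.sup' Finset.univ_nonempty (fun i => max a (a' i)) with hA
  have hAr : A < ((n + 1 : ℕ) : ℝ) := by
    rw [hA, Finset.sup'_lt_iff]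
    exact fun i _ => max_lt ha (ha' i)
  have hmono : ∀ i s, s ∈ halfPlane A → s ∈ halfPlane a ∧ s ∈ halfPlane (a' i) := fun i s hs => by
    have h1 : max a (a' i) ≤ A := Finset.le_sup' (fun i => max a (a' i)) (Finset.mem_univ i)
    exact ⟨lt_of_le_of_lt ((le_max_left _ _).trans h1) hs, lt_of_le_of_lt ((le_max_right _ _).trans h1) hs⟩
  let c : ℂ := ((n + 1 : ℕ) : ℂ)
  let F : S → ℂ → ℂ := fun i s => h i s / ((s - c) * e i s)
  have hFm : ∀ i, ∀ s ∈ halfPlane A, MeromorphicAt (F i) s := fun i s hs =>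
    (hh i s (hmono i s hs).2).meromorphicAt.div
      ((analyticAt_id.sub analyticAt_const).meromorphicAt.mul (he i s (hmono i s hs).2).meromorphicAt)
  have hc : c ∈ halfPlane A := by simpa [halfPlane, c] using hAr
  obtain ⟨i₀⟩ := hne
  refine ⟨((n + 1 : ℕ) : ℝ) - A, by linarith, H * ∏ i, F i, fun s hs => ?_, fun s hs => ?_, ?_⟩
  · have hs' : s ∈ halfPlane A := by
      change A < s.re
      have : ((n + 1 : ℕ) : ℝ) - (((n + 1 : ℕ) : ℝ) - A) < s.re := hs
      linarith
    exact (hH s (hmono i₀ s hs').1).meromorphicAt.mul (MeromorphicAt.prod fun i _ => hFm i s hs')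
  · rw [hL s hs, Pi.mul_apply, Finset.prod_apply]
    exact congrArg _ (Finset.prod_congr rfl fun i _ => ((hexp i s hs).2).symm)
  · refine order_prod_neg (hH c (hmono i₀ c hc).1) hH0 (fun i => hFm i c hc) fun i => ?_
    have hFeq : F i = fun s => (h i s / e i s) / (s - c) := funext fun s => by
      simp only [F]; rw [mul_comm, div_div]
    rw [hFeq]
    exact order_eq_neg_one ((hh i c (hmono i c hc).2).div (he i c (hmono i c hc).2) (he0 i))
      (div_ne_zero (hh0 i) (he0 i))

include f in
/-- The pole is simple and the only one for an irreducible scheme dominating the integers. -/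
theorem exists_continuation_simple_pole (r : ℕ) (hr : topologicalKrullDim X = (r : WithBot ℕ∞)) [IrreducibleSpace X]
    (hdom : ∃ x : X, closure ({f.base x} : Set ↥(Spec (CommRingCat.of (ULift.{u} ℤ)))) = Set.univ) :
    ∃ ε : ℝ, 0 < ε ∧ ∃ g : ℂ → ℂ, MeromorphicOn g {s : ℂ | (r : ℝ) - ε < s.re} ∧
      (∀ s : ℂ, (r : ℝ) < s.re → g s = LSeries (Zeta.arithCoeff X) s) ∧
      meromorphicOrderAt g (r : ℂ) = -1 ∧
      ∀ s : ℂ, (r : ℝ) - ε < s.re → s ≠ (r : ℂ) → 0 ≤ meromorphicOrderAt g s := by
  classical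
  rcases r with _ | n
  · -- a point over the generic point is not closed, against the dimension
    exfalso
    obtain ⟨x, hx⟩ := hdom
    haveI : IsJacobsonRing (ULift.{u} ℤ) := Groth.L11.Zeta.isJacobsonRing_ulift
    haveI : JacobsonSpace X := LocallyOfFiniteType.jacobsonSpace f
    haveI : CompactSpace X := QuasiCompact.compactSpace_of_compactSpace f
    obtain ⟨y, hyx, hy⟩ := IsClosed.exists_closed_singleton (S := closure ({x} : Set X)) isClosed_closure
      (Set.singleton_nonempty x).closure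
    have hne : closure ({x} : Set X) ≠ {y} := fun heq => by
      have hxy : x = y := by simpa using heq.le (subset_closure rfl)
      subst hxy
      have hcl : IsClosed ({f.base x} : Set ↥(Spec (CommRingCat.of (ULift.{u} ℤ)))) :=
        Scheme.Hom.closePoints_subset_preimage_closedPoints f hy
      rw [hcl.closure_eq] at hx
      haveI : IsDomain (ULift.{u} ℤ) := (ULift.ringEquiv (R := ℤ)).toMulEquiv.isDomain ℤ
      have h1 : (⟨⊥, Ideal.isPrime_bot⟩ : PrimeSpectrum (ULift.{u} ℤ)) = f.base x := by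
        have := hx.ge (Set.mem_univ (⟨⊥, Ideal.isPrime_bot⟩ : PrimeSpectrum (ULift.{u} ℤ)))
        exact this
      have h2 : (PrimeSpectrum.asIdeal (f.base x : PrimeSpectrum (ULift.{u} ℤ))).IsMaximal :=
        (PrimeSpectrum.isClosed_singleton_iff_isMaximal _).mp hcl
      rw [← h1] at h2
      have h3 : IsField (ULift.{u} ℤ) := (Ring.isField_iff_maximal_bot).mpr h2
      exact Int.not_isField ((ULift.ringEquiv (R := ℤ)).symm.toMulEquiv.isField h3)
    let B : TopologicalSpace.IrreducibleCloseds X := ⟨closure {x}, isIrreducible_singleton.closure, isClosed_closure⟩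
    let A : TopologicalSpace.IrreducibleCloseds X := ⟨{y}, isIrreducible_singleton, hy⟩
    have hlt : A < B := lt_of_le_of_ne (Set.singleton_subset_iff.mpr hyx) fun h =>
      hne (congrArg (fun T : TopologicalSpace.IrreducibleCloseds X => (T : Set X)) h).symm
    have := (Order.LTSeries.length_le_krullDim ((RelSeries.singleton _ A).snoc B hlt)).trans hr.le
    exact absurd (show (1 : ℕ) ≤ 0 by exact_mod_cast this) (by omega)
  obtain ⟨a, H, S, _, b, ha, hH, hH0, hne, -, hL, hsimp⟩ := exists_decomposition f hr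
  obtain ⟨hsub, hb⟩ := hsimp inferInstance hdom
  obtain ⟨i₀⟩ := hne
  obtain ⟨a', ha', h, hh, hh0, hexp⟩ := hb i₀
  let c : ℂ := ((n + 1 : ℕ) : ℂ)
  set A := max a a' with hA
  have hAr : A < ((n + 1 : ℕ) : ℝ) := max_lt ha ha'
  have hc : c ∈ halfPlane A := by simpa [halfPlane, c] using hAr
  have hmono : ∀ s ∈ halfPlane A, s ∈ halfPlane a ∧ s ∈ halfPlane a' := fun s hs =>
    ⟨lt_of_le_of_lt (le_max_left a a') (show A < s.re from hs), lt_of_le_of_lt (le_max_right a a') (show A < s.re from hs)⟩
  have hG : ∀ s ∈ halfPlane A, AnalyticAt ℂ (fun z => H z * h z) s := fun s hs =>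
    (hH s (hmono s hs).1).mul (hh s (hmono s hs).2)
  have hmem : ∀ s : ℂ, ((n + 1 : ℕ) : ℝ) - (((n + 1 : ℕ) : ℝ) - A) < s.re → s ∈ halfPlane A := fun s hs => by
    change A < s.re
    linarith
  refine ⟨((n + 1 : ℕ) : ℝ) - A, by linarith, fun s => H s * h s / (s - c), fun s hs => ?_, fun s hs => ?_, ?_, ?_⟩
  · exact (hG s (hmem s hs)).meromorphicAt.div (analyticAt_id.sub analyticAt_const).meromorphicAt
  · haveI := hsub
    rw [hL s hs, Fintype.prod_subsingleton _ i₀, (hexp s hs).2]
    exact mul_div_assoc _ _ _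
  · rw [order_eq_neg_one (hG c hc) (mul_ne_zero hH0 hh0)]
    rfl
  · intro s hs hsne
    exact ((hG s (hmem s hs)).div (analyticAt_id.sub analyticAt_const) (sub_ne_zero.mpr hsne)).meromorphicOrderAt_nonneg

end Groth.L03.ZetaCont
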