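import Groth.Agent.L03.ZetaCont.Series
import Mathlib.Data.Nat.Factorization.PrimePow
import Mathlib.Analysis.PSeries

/-!
Convergence of Dirichlet series from bounds on their coefficients.
-/

set_option autoImplicit false

open Complex

namespace Groth.L03.ZetaCont

/-- Higher prime powers. -/
def higherPow : Set ℕ := Set.range fun z : Nat.Primes × ℕ => (z.1 : ℕ) ^ (z.2 + 2)

theorem injective_higherPow : Function.Injective fun z : Nat.Primes × ℕ => (z.1 : ℕ) ^ (z.2 + 2) := by
  rintro ⟨p, i⟩ ⟨q, j⟩ h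
  dsimp only at h
  have := Nat.Primes.prodNatEquiv.injective (a₁ := (p, i + 1)) (a₂ := (q, j + 1)) (Subtype.ext h)
  simp only [Prod.mk.injEq] at this
  exact Prod.ext this.1 (by omega)

theorem summable_higherPow {t : ℝ} (ht : 1 / 2 < t) : Summable (higherPow.indicator fun n : ℕ => (n : ℝ) ^ (-t)) := by
  rw [← injective_higherPow.summable_iff (f := higherPow.indicator fun n : ℕ => (n : ℝ) ^ (-t))
    fun n hn => Set.indicator_of_notMem hn _]
  simp only [Function.comp_def, higherPow, Set.indicator_of_mem (Set.mem_range_self _)]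
  have h1 : Summable fun p : Nat.Primes => (p : ℝ) ^ (-(2 * t)) := by
    exact ((Real.summable_nat_rpow.mpr (by linarith)).subtype {n : ℕ | n.Prime})
  have h2 : Summable fun i : ℕ => ((2 : ℝ) ^ (-t)) ^ i :=
    summable_geometric_of_lt_one (by positivity) (Real.rpow_lt_one_of_one_lt_of_neg (by norm_num) (by linarith))
  refine Summable.of_nonneg_of_le (fun z => by positivity) (fun z => ?_)
    (h1.mul_of_nonneg h2 (fun p => by positivity) fun i => by positivity)
  have hp : (2 : ℝ) ≤ (z.1 : ℝ) := by exact_mod_cast z.1.2.two_le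
  rw [Nat.cast_pow, ← Real.rpow_natCast ((2 : ℝ) ^ (-t)), ← Real.rpow_natCast (z.1 : ℝ) (z.2 + 2),
    ← Real.rpow_mul (by linarith), ← Real.rpow_mul (by norm_num), Nat.cast_add, add_mul, Real.rpow_add (by linarith),
    mul_comm, Nat.cast_ofNat, mul_neg, mul_comm (z.2 : ℝ) (-t)]
  refine mul_le_mul_of_nonneg_left ?_ (by positivity)
  exact Real.rpow_le_rpow_of_nonpos (by norm_num) hp
    (mul_nonpos_of_nonpos_of_nonneg (by linarith) (Nat.cast_nonneg _))

/-- Convergence from a bound on all coefficients and one on higher prime powers. -/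
theorem summable_of_bound {d : ℕ → ℂ} {C : ℝ} {t₁ t₂ σ : ℝ} (h1 : t₁ + 1 < σ) (h2 : t₂ + 1 / 2 < σ)
    (h : ∀ n, n ≠ 0 → ‖d n‖ ≤ C * (n : ℝ) ^ t₁ + higherPow.indicator (fun n : ℕ => C * (n : ℝ) ^ t₂) n) :
    LSeriesSummable d (σ : ℂ) := by
  refine Summable.of_norm ?_
  refine Summable.of_nonneg_of_le (fun n => norm_nonneg _) (fun n => ?_)
    (((Real.summable_nat_rpow.mpr (show t₁ - σ < -1 by linarith)).mul_left |C|).add
      ((summable_higherPow (t := σ - t₂) (by linarith)).mul_left |C|))
  rcases eq_or_ne n 0 with rfl | hn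
  · simp only [LSeries.term_zero, norm_zero]
    exact add_nonneg (by positivity) (mul_nonneg (abs_nonneg _) (Set.indicator_nonneg (fun _ _ => by positivity) _))
  · have hn0 : (0 : ℝ) < n := by exact_mod_cast Nat.pos_of_ne_zero hn
    rw [LSeries.term_of_ne_zero hn, norm_div, norm_natCast_cpow_of_pos (Nat.pos_of_ne_zero hn), ofReal_re, div_le_iff₀
      (by positivity), add_mul, mul_assoc, ← Real.rpow_add hn0, sub_add_cancel, mul_assoc]
    refine (h n hn).trans (add_le_add (mul_le_mul_of_nonneg_right (le_abs_self C) (by positivity)) ?_)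
    by_cases hm : n ∈ higherPow
    · rw [Set.indicator_of_mem hm, Set.indicator_of_mem hm, ← Real.rpow_add hn0, neg_sub, sub_add_cancel]
      exact mul_le_mul_of_nonneg_right (le_abs_self C) (by positivity)
    · simp [Set.indicator_of_notMem hm]

/-- Convergence from a bound on the powers of one number. -/
theorem summable_of_bound_pow {d : ℕ → ℂ} {C : ℝ} {t σ : ℝ} {p : ℕ} (hp : 2 ≤ p) (ht : t < σ)
    (hd : ∀ n, (∀ e : ℕ, n ≠ p ^ (e + 1)) → d n = 0) (h : ∀ e : ℕ, ‖d (p ^ (e + 1))‖ ≤ C * ((p ^ (e + 1) : ℕ) : ℝ) ^ t) :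
    LSeriesSummable d (σ : ℂ) := by
  have hinj : Function.Injective fun e : ℕ => p ^ (e + 1) := fun a b hab => by
    simpa using Nat.pow_right_injective hp hab
  refine (hinj.summable_iff fun n hn => ?_).mp ?_
  · rcases eq_or_ne n 0 with rfl | hn0
    · exact LSeries.term_zero _ _
    · rw [LSeries.term_of_ne_zero hn0, hd n fun e he => hn ⟨e, he.symm⟩, zero_div]
  refine Summable.of_norm (Summable.of_nonneg_of_le (fun _ => norm_nonneg _) (fun e => ?_)
    (((summable_geometric_of_lt_one (by positivity)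
      (Real.rpow_lt_one_of_one_lt_of_neg (x := (p : ℝ)) (by exact_mod_cast hp) (show t - σ < 0 by linarith))).comp_injective
        Nat.succ_injective).mul_left C))
  have hpos : 0 < p ^ (e + 1) := pow_pos (by omega) _
  simp only [Function.comp_apply, Nat.succ_eq_add_one]
  rw [LSeries.term_of_ne_zero hpos.ne', norm_div, norm_natCast_cpow_of_pos hpos, ofReal_re, div_le_iff₀
    (Real.rpow_pos_of_pos (by exact_mod_cast hpos) _), ← Real.rpow_natCast ((p : ℝ) ^ (t - σ)),
    ← Real.rpow_mul (Nat.cast_nonneg _), mul_comm (t - σ), Real.rpow_mul (Nat.cast_nonneg _), Real.rpow_natCast,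
    ← Nat.cast_pow, mul_assoc, ← Real.rpow_add (by exact_mod_cast hpos), sub_add_cancel]
  exact h e

/-- The shifted coefficients. -/
noncomputable def shiftCoeff (n : ℕ) (b : ℕ → ℂ) : ℕ → ℂ := fun m => (m : ℂ) ^ n * b m

theorem term_shiftCoeff (n : ℕ) (b : ℕ → ℂ) (s : ℂ) :
    LSeries.term (shiftCoeff n b) s = LSeries.term b (s - n) := by
  funext m
  rcases eq_or_ne m 0 with rfl | hm
  · simp
  · rw [LSeries.term_of_ne_zero hm, LSeries.term_of_ne_zero hm, shiftCoeff, cpow_sub _ _ (Nat.cast_ne_zero.mpr hm),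
      cpow_natCast, div_div_eq_mul_div, mul_comm]

theorem lseries_eq_add {c b : ℕ → ℂ} {s : ℂ} (hc : LSeriesSummable c s) (hb : LSeriesSummable b s) :
    LSeries c s = LSeries b s + LSeries (c - b) s := by
  rw [LSeries_sub hc hb]
  ring

end Groth.L03.ZetaCont
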