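import Groth.Agent.L03.ZetaCont.Tent
import Mathlib.Analysis.SpecialFunctions.Pow.Complex
import Mathlib.Analysis.Calculus.MeanValue
import Mathlib.Analysis.SpecialFunctions.Log.Deriv
import Mathlib.Analysis.SpecialFunctions.ExpDeriv

/-!
Estimates on the weighted norm power on the mixed space.
-/

set_option autoImplicit false

open NumberField NumberField.InfinitePlace NumberField.mixedEmbedding NumberField.Units
  NumberField.Units.dirichletUnitTheorem Module

namespace Groth.L03.ZetaCont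

variable {K : Type*} [Field K] [NumberField K]

open scoped Classical in
theorem normAtPlace_le_norm (w : InfinitePlace K) (x : mixedSpace K) : normAtPlace w x ≤ ‖x‖ := by
  classical
  rw [norm_eq_sup'_normAtPlace]
  exact Finset.le_sup' (fun w => normAtPlace w x) (Finset.mem_univ w)

open scoped Classical in
theorem abs_normAtPlace_sub_le (w : InfinitePlace K) (x y : mixedSpace K) :
    |normAtPlace w x - normAtPlace w y| ≤ ‖x - y‖ := by
  have h1 := normAtPlace_add_le w (x - y) y
  have h2 := normAtPlace_add_le w (y - x) x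
  rw [sub_add_cancel] at h1 h2
  have h3 := normAtPlace_le_norm w (x - y)
  have h4 := normAtPlace_le_norm w (y - x)
  rw [norm_sub_rev] at h4
  rw [abs_le]
  constructor <;> linarith

/-- The logarithm of the norm. -/
noncomputable def logNorm (x : mixedSpace K) : ℝ := Real.log (mixedEmbedding.norm x)

theorem logNorm_eq_sum {x : mixedSpace K} (hx : ∀ w, normAtPlace w x ≠ 0) :
    logNorm x = ∑ w, (mult w : ℝ) * Real.log (normAtPlace w x) := by
  rw [logNorm, mixedEmbedding.norm_apply, Real.log_prod fun w _ => pow_ne_zero _ (hx w)]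
  exact Finset.sum_congr rfl fun w _ => Real.log_pow _ _

theorem norm_pos_of_forall {x : mixedSpace K} (hx : ∀ w, 0 < normAtPlace w x) : 0 < mixedEmbedding.norm x := by
  rw [mixedEmbedding.norm_apply]
  exact Finset.prod_pos fun w _ => pow_pos (hx w) _

open scoped Classical in
theorem exists_logMap_bound : ∃ B : ℝ, 0 ≤ B ∧ ∀ x : mixedSpace K, weight x ≠ 0 → ‖logMap x‖ ≤ B := by
  let e := ((basisUnitLattice K).ofZLatticeBasis ℝ (unitLattice K)).equivFun
  let T : (Fin (rank K) → ℝ) →L[ℝ] logSpace K := LinearMap.toContinuousLinearMap e.symm.toLinearMap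
  refine ⟨‖T‖, norm_nonneg _, fun x hx => ?_⟩
  have hne := norm_ne_zero_of_weight hx
  rw [weight, if_neg hne] at hx
  have h1 : ‖unitCoord (logMap x)‖ ≤ 1 := by
    refine (pi_norm_le_iff_of_nonneg zero_le_one).mpr fun i => ?_
    exact abs_le_of_tent_ne_zero fun h0 => hx (Finset.prod_eq_zero (Finset.mem_univ i) h0)
  calc ‖logMap x‖ = ‖T (unitCoord (logMap x))‖ :=
        congrArg (fun v => ‖v‖) (e.symm_apply_apply (logMap x)).symm
    _ ≤ ‖T‖ * ‖unitCoord (logMap x)‖ := T.le_opNorm _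
    _ ≤ ‖T‖ := mul_le_of_le_one_right (norm_nonneg _) h1

open scoped Classical in
/-- On the support of the weight all places have comparable absolute values. -/
theorem exists_cone_bound :
    ∃ c : ℝ, 0 < c ∧ c ≤ 1 ∧ ∀ x : mixedSpace K, weight x ≠ 0 → ∀ w, c * ‖x‖ ≤ normAtPlace w x := by
  obtain ⟨B, hB, hbd⟩ := exists_logMap_bound (K := K)
  let B' : ℝ := (Fintype.card (InfinitePlace K) : ℝ) * B
  have hB' : 0 ≤ B' := mul_nonneg (Nat.cast_nonneg _) hB
  refine ⟨Real.exp (-(2 * B')), Real.exp_pos _, Real.exp_le_one_iff.mpr (by linarith), fun x hx => ?_⟩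
  have hne := mixedEmbedding.norm_ne_zero_iff.mp (norm_ne_zero_of_weight hx)
  have hpos : ∀ w, 0 < normAtPlace w x := fun w => lt_of_le_of_ne (normAtPlace_nonneg w x) (hne w).symm
  set a := logNorm x * (finrank ℚ K : ℝ)⁻¹ with ha
  let D : InfinitePlace K → ℝ := fun w => (mult w : ℝ) * (Real.log (normAtPlace w x) - a)
  have hD0 : ∑ w, D w = 0 := by
    simp only [D, mul_sub, Finset.sum_sub_distrib, ← Finset.sum_mul, ← Nat.cast_sum, sum_mult_eq,
      ← logNorm_eq_sum hne, ha]
    rw [mul_left_comm, mul_inv_cancel₀ (Nat.cast_ne_zero.mpr finrank_pos.ne'), mul_one, sub_self]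
  have hDb : ∀ w, |D w| ≤ B' := fun w => by
    have hD : ∀ w, w ≠ w₀ → |D w| ≤ B := fun w h =>
      (norm_le_pi_norm (logMap x) ⟨w, h⟩).trans (hbd x hx)
    have hcard : (1 : ℝ) ≤ Fintype.card (InfinitePlace K) := by exact_mod_cast Fintype.card_pos
    by_cases h : w = w₀
    · subst h
      rw [← Finset.add_sum_erase _ _ (Finset.mem_univ (w₀ : InfinitePlace K))] at hD0
      rw [eq_neg_of_add_eq_zero_left hD0, abs_neg]
      refine (Finset.abs_sum_le_sum_abs _ _).trans
        ((Finset.sum_le_card_nsmul _ _ B fun w hw => hD w (Finset.ne_of_mem_erase hw)).trans ?_)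
      rw [nsmul_eq_mul]
      refine mul_le_mul_of_nonneg_right ?_ hB
      exact_mod_cast Finset.card_erase_le
    · exact (hD w h).trans (le_mul_of_one_le_left hB hcard)
  have hlog : ∀ w, |Real.log (normAtPlace w x) - a| ≤ B' := fun w => by
    refine le_trans ?_ (hDb w)
    simp only [D, abs_mul, Nat.abs_cast]
    exact le_mul_of_one_le_left (abs_nonneg _) (by exact_mod_cast mult_pos)
  intro w
  rw [norm_eq_sup'_normAtPlace]
  obtain ⟨w', -, hw'⟩ := Finset.exists_mem_eq_sup' Finset.univ_nonempty fun w => normAtPlace w x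
  rw [hw', ← Real.exp_log (hpos w'), ← Real.exp_log (hpos w), ← Real.exp_add, Real.exp_le_exp]
  have := abs_le.mp (hlog w)
  have := abs_le.mp (hlog w')
  linarith

/-- The weighted power of the norm. -/
noncomputable def wpow (s : ℂ) (x : mixedSpace K) : ℂ := (weight x : ℂ) * Complex.exp (-s * (logNorm x : ℂ))

theorem wpow_zero (s : ℂ) : wpow s (0 : mixedSpace K) = 0 := by
  simp [wpow, weight]

theorem wpow_smul (s : ℂ) {t : ℝ} (ht : 0 < t) (x : mixedSpace K) :
    wpow s (t • x) = Complex.exp (-s * (finrank ℚ K * Real.log t : ℝ)) * wpow s x := by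
  unfold wpow
  rw [weight_smul ht.ne']
  by_cases h : weight x = 0
  · simp [h]
  · have hN := norm_ne_zero_of_weight h
    rw [show logNorm (t • x) = finrank ℚ K * Real.log t + logNorm x by
      rw [logNorm, mixedEmbedding.norm_smul, Real.log_mul (pow_ne_zero _ (abs_ne_zero.mpr ht.ne')) hN, Real.log_pow,
        abs_of_pos ht]
      rfl]
    rw [Complex.ofReal_add, mul_add, Complex.exp_add]
    ring

theorem norm_wpow_le (s : ℂ) (x : mixedSpace K) : ‖wpow s x‖ ≤ Real.exp (-(s.re * logNorm x)) := by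
  unfold wpow
  rw [norm_mul, Complex.norm_real, Real.norm_eq_abs, abs_of_nonneg (weight_nonneg x), Complex.norm_exp]
  simp only [neg_mul, Complex.neg_re, Complex.re_mul_ofReal]
  exact mul_le_of_le_one_left (Real.exp_pos _).le (weight_le_one x)

theorem norm_wpow_le' (s : ℂ) (x : mixedSpace K) : ‖wpow s x‖ ≤ Real.exp (‖s‖ * |logNorm x|) := by
  refine (norm_wpow_le s x).trans (Real.exp_le_exp.mpr ?_)
  refine (neg_le_abs _).trans ?_
  rw [abs_mul]
  exact mul_le_mul_of_nonneg_right (Complex.abs_re_le_norm s) (abs_nonneg _)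

theorem differentiable_wpow (x : mixedSpace K) : Differentiable ℂ fun s => wpow s x := by
  unfold wpow
  fun_prop

theorem norm_exp_sub_le {a b : ℂ} {M : ℝ} (ha : a.re ≤ M) (hb : b.re ≤ M) :
    ‖Complex.exp a - Complex.exp b‖ ≤ Real.exp M * ‖a - b‖ := by
  refine (convex_halfSpace_re_le M).norm_image_sub_le_of_norm_deriv_le
    (fun x _ => Complex.differentiableAt_exp) (fun x hx => ?_) hb ha
  rw [Complex.deriv_exp, Complex.norm_exp]
  exact Real.exp_le_exp.mpr hx

theorem abs_log_sub_le {a b m : ℝ} (hm : 0 < m) (ha : m ≤ a) (hb : m ≤ b) :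
    |Real.log a - Real.log b| ≤ |a - b| / m := by
  have key : ∀ a b : ℝ, m ≤ a → m ≤ b → Real.log a - Real.log b ≤ |a - b| / m := fun a b ha hb => by
    have h := Real.log_le_sub_one_of_pos (div_pos (hm.trans_le ha) (hm.trans_le hb))
    rw [Real.log_div (hm.trans_le ha).ne' (hm.trans_le hb).ne', div_sub_one (hm.trans_le hb).ne'] at h
    refine h.trans ((div_le_div_of_nonneg_right (le_abs_self _) (hm.trans_le hb).le).trans ?_)
    exact div_le_div_of_nonneg_left (abs_nonneg _) hm hb
  rw [abs_le]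
  refine ⟨?_, key a b ha hb⟩
  have := key b a hb ha
  rw [abs_sub_comm] at this
  linarith

set_option maxHeartbeats 1000000 in
open scoped Classical in
/-- The weighted power varies slowly along translations by bounded vectors. -/
theorem exists_wpow_sub_le :
    ∃ c : ℝ, 0 < c ∧ c ≤ 1 ∧ ∀ R : ℝ, ∃ C : ℝ, 0 ≤ C ∧ ∀ s : ℂ, 0 ≤ s.re → ‖s‖ ≤ R → ∀ x y : mixedSpace K,
      x ≠ 0 → ‖x - y‖ ≤ c * ‖x‖ →
        ‖wpow s y - wpow s x‖ ≤ C * ‖x - y‖ * ‖x‖ ^ (-((finrank ℚ K : ℝ) * s.re + 1)) := by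
  obtain ⟨c₀, hc₀, hc1, hcone⟩ := exists_cone_bound (K := K)
  let e := ((basisUnitLattice K).ofZLatticeBasis ℝ (unitLattice K)).equivFun
  let T : logSpace K →L[ℝ] (Fin (rank K) → ℝ) := LinearMap.toContinuousLinearMap e.toLinearMap
  set d : ℝ := (finrank ℚ K : ℝ)
  have hd : 1 ≤ d := by
    have : 1 ≤ finrank ℚ K := finrank_pos
    simpa [d] using (Nat.one_le_cast (α := ℝ)).mpr this
  refine ⟨c₀ / 4, by linarith, by linarith, fun R => ?_⟩
  let μ : ℝ := c₀ / 4
  let C₁ : ℝ := 2 * d / μ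
  let C₂ : ℝ := Fintype.card (Fin (rank K)) * (‖T‖ * (d * C₁))
  let C₃ : ℝ := (C₂ + max R 0 * (d / μ)) * Real.exp (d * max R 0 * |Real.log μ|)
  refine ⟨|C₃|, abs_nonneg _, fun s hs hsR x y hx hxy => ?_⟩
  have hx0 : 0 < ‖x‖ := norm_pos_iff.mpr hx
  by_cases hboth : weight x = 0 ∧ weight y = 0
  · simp only [wpow, hboth.1, hboth.2, Complex.ofReal_zero, zero_mul, sub_zero, norm_zero]
    positivity
  have hy : 3 / 4 * ‖x‖ ≤ ‖y‖ := by
    have := norm_le_norm_add_norm_sub' x y
    have : c₀ / 4 * ‖x‖ ≤ 1 / 4 * ‖x‖ := mul_le_mul_of_nonneg_right (by linarith) hx0.le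
    linarith
  set m := μ * ‖x‖ with hm
  have hm0 : 0 < m := mul_pos (by positivity) hx0
  have hplaces : ∀ w, m ≤ normAtPlace w x ∧ m ≤ normAtPlace w y := fun w => by
    have hd' := abs_le.mp (abs_normAtPlace_sub_le w x y)
    rw [not_and_or] at hboth
    rcases hboth with h | h
    · have := hcone x h w
      have h4 : μ * ‖x‖ = c₀ * ‖x‖ / 4 := by ring
      constructor <;> nlinarith
    · have := hcone y h w
      have : c₀ * (3 / 4 * ‖x‖) ≤ c₀ * ‖y‖ := mul_le_mul_of_nonneg_left hy hc₀.le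
      have h4 : μ * ‖x‖ = c₀ * ‖x‖ / 4 := by ring
      constructor <;> nlinarith
  set δ := ‖x - y‖ / ‖x‖ with hδ
  have hδ0 : 0 ≤ δ := by positivity
  have hlog : ∀ w, |Real.log (normAtPlace w x) - Real.log (normAtPlace w y)| ≤ δ / μ := fun w => by
    refine (abs_log_sub_le hm0 (hplaces w).1 (hplaces w).2).trans ?_
    rw [hm, hδ, div_div, mul_comm ‖x‖ μ]
    exact div_le_div_of_nonneg_right (abs_normAtPlace_sub_le w x y) (by positivity)
  have hxne : ∀ w, normAtPlace w x ≠ 0 := fun w => (hm0.trans_le (hplaces w).1).ne'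
  have hyne : ∀ w, normAtPlace w y ≠ 0 := fun w => (hm0.trans_le (hplaces w).2).ne'
  have hmsum : (∑ w : InfinitePlace K, (mult w : ℝ)) = d := by
    rw [← Nat.cast_sum, sum_mult_eq]
  have hL : |logNorm x - logNorm y| ≤ d * (δ / μ) := by
    rw [logNorm_eq_sum hxne, logNorm_eq_sum hyne, ← Finset.sum_sub_distrib, ← hmsum, Finset.sum_mul]
    refine (Finset.abs_sum_le_sum_abs _ _).trans (Finset.sum_le_sum fun w _ => ?_)
    rw [← mul_sub, abs_mul, Nat.abs_cast]
    exact mul_le_mul_of_nonneg_left (hlog w) (Nat.cast_nonneg _)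
  have hlm : ‖logMap x - logMap y‖ ≤ d * (C₁ * δ) := by
    refine (pi_norm_le_iff_of_nonneg (by positivity)).mpr fun w => ?_
    rw [Pi.sub_apply, logMap_apply, logMap_apply, ← mul_sub, Real.norm_eq_abs, abs_mul, Nat.abs_cast]
    refine mul_le_mul ?_ ?_ (abs_nonneg _) (by positivity)
    · rw [← hmsum]
      exact Finset.single_le_sum (f := fun w : InfinitePlace K => (mult w : ℝ)) (fun _ _ => Nat.cast_nonneg _)
        (Finset.mem_univ w.1)
    · rw [sub_sub_sub_comm]
      refine (abs_sub _ _).trans ?_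
      rw [← sub_mul, abs_mul, abs_of_nonneg (by positivity : (0 : ℝ) ≤ (finrank ℚ K : ℝ)⁻¹)]
      have h1 := hlog w.1
      have h2 : |Real.log (mixedEmbedding.norm x) - Real.log (mixedEmbedding.norm y)| * (d)⁻¹ ≤ δ / μ := by
        rw [← div_eq_mul_inv, div_le_iff₀ (by linarith)]
        exact hL.trans_eq (mul_comm _ _)
      have h3 : C₁ * δ = 2 * d * (δ / μ) := by ring
      have h4 : δ / μ ≤ d * (δ / μ) := le_mul_of_one_le_left (by positivity) hd
      linarith
  have hw : |weight x - weight y| ≤ C₂ * δ := by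
    rw [weight, weight, if_neg (norm_pos_of_forall fun w => hm0.trans_le (hplaces w).1).ne',
      if_neg (norm_pos_of_forall fun w => hm0.trans_le (hplaces w).2).ne']
    refine (abs_tentProd_sub_le _ _).trans ?_
    refine (Finset.sum_le_card_nsmul _ _ (‖T‖ * (d * (C₁ * δ))) fun i _ => ?_).trans_eq ?_
    · rw [← Real.norm_eq_abs, ← Pi.sub_apply, ← map_sub]
      exact (norm_le_pi_norm _ i).trans ((T.le_opNorm _).trans (mul_le_mul_of_nonneg_left hlm (norm_nonneg _)))
    · rw [Finset.card_univ, nsmul_eq_mul]; ring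
  set M := -(s.re * (d * Real.log m)) with hM
  have hlow : ∀ z : mixedSpace K, (∀ w, m ≤ normAtPlace w z) → (-s * (logNorm z : ℂ)).re ≤ M := fun z hz => by
    rw [neg_mul, Complex.neg_re, Complex.re_mul_ofReal, hM, neg_le_neg_iff]
    refine mul_le_mul_of_nonneg_left ?_ hs
    rw [logNorm_eq_sum fun w => (hm0.trans_le (hz w)).ne', ← hmsum, Finset.sum_mul]
    exact Finset.sum_le_sum fun w _ => mul_le_mul_of_nonneg_left (Real.log_le_log hm0 (hz w)) (Nat.cast_nonneg _)
  have hlowx := hlow x fun w => (hplaces w).1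
  have hlowy := hlow y fun w => (hplaces w).2
  have hmain : ‖wpow s y - wpow s x‖ ≤ (C₂ * δ + max R 0 * (d * (δ / μ))) * Real.exp M := by
    unfold wpow
    rw [show (weight y : ℂ) * Complex.exp (-s * logNorm y) - (weight x : ℂ) * Complex.exp (-s * logNorm x) =
      ((weight y : ℂ) - weight x) * Complex.exp (-s * logNorm y) +
        (weight x : ℂ) * (Complex.exp (-s * logNorm y) - Complex.exp (-s * logNorm x)) by ring]
    refine (norm_add_le _ _).trans ?_
    rw [add_mul, norm_mul, norm_mul, ← Complex.ofReal_sub, Complex.norm_real, Complex.norm_real, Real.norm_eq_abs,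
      Real.norm_eq_abs, abs_sub_comm, abs_of_nonneg (weight_nonneg x), Complex.norm_exp]
    refine add_le_add (mul_le_mul hw (Real.exp_le_exp.mpr hlowy) (Real.exp_pos _).le (by positivity)) ?_
    refine ((mul_le_of_le_one_left (norm_nonneg _) (weight_le_one x)).trans (norm_exp_sub_le hlowy hlowx)).trans ?_
    rw [mul_comm]
    refine mul_le_mul_of_nonneg_right ?_ (Real.exp_pos _).le
    rw [← mul_sub, ← Complex.ofReal_sub, norm_mul, norm_neg, Complex.norm_real, Real.norm_eq_abs, abs_sub_comm]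
    exact mul_le_mul (hsR.trans (le_max_left _ _)) hL (abs_nonneg _) (le_max_right _ _)
  refine hmain.trans ?_
  have hexpM : Real.exp M ≤ Real.exp (d * max R 0 * |Real.log μ|) * ‖x‖ ^ (-(d * s.re)) := by
    rw [Real.rpow_def_of_pos hx0, ← Real.exp_add, Real.exp_le_exp, hM, hm, Real.log_mul (by positivity) hx0.ne']
    have h1 : s.re ≤ max R 0 := (Complex.re_le_norm s).trans (hsR.trans (le_max_left _ _))
    have h2 : -(s.re * Real.log μ) ≤ max R 0 * |Real.log μ| := by
      refine (neg_le_abs _).trans ?_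
      rw [abs_mul, abs_of_nonneg hs]
      exact mul_le_mul_of_nonneg_right h1 (abs_nonneg _)
    have h3 := mul_le_mul_of_nonneg_left h2 (by linarith : (0 : ℝ) ≤ d)
    nlinarith
  have hC3 : (C₂ * δ + max R 0 * (d * (δ / μ))) * (Real.exp (d * max R 0 * |Real.log μ|) * ‖x‖ ^ (-(d * s.re))) =
      C₃ * (δ * ‖x‖ ^ (-(d * s.re))) := by ring
  refine (mul_le_mul_of_nonneg_left hexpM (by positivity)).trans ?_
  rw [hC3]
  have e : δ * ‖x‖ ^ (-(d * s.re)) = ‖x - y‖ * ‖x‖ ^ (-(d * s.re + 1)) := by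
    rw [neg_add, Real.rpow_add hx0, Real.rpow_neg hx0.le 1, Real.rpow_one, hδ]
    ring
  rw [e, ← mul_assoc C₃]
  exact mul_le_mul_of_nonneg_right (mul_le_mul_of_nonneg_right (le_abs_self _) (norm_nonneg _)) (by positivity)

end Groth.L03.ZetaCont
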