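import Groth.Agent.L03.ZetaCont.Lattice
import Groth.Agent.L11.Zeta.Euler
import Mathlib.NumberTheory.NumberField.DedekindZeta
import Mathlib.RingTheory.DedekindDomain.Ideal.Lemmas

/-!
The Dedekind zeta function continues past the line `re s = 1`, with a simple pole at `1`.
-/

set_option autoImplicit false

open NumberField NumberField.mixedEmbedding NumberField.Units Module IsDedekindDomain
open scoped nonZeroDivisors

namespace Groth.L03.ZetaCont

variable {K : Type*} [Field K] [NumberField K]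

theorem norm_mixedEmbedding_eq_absNorm (g : 𝓞 K) :
    mixedEmbedding.norm (mixedEmbedding K (g : K)) = (Ideal.absNorm (Ideal.span {g}) : ℝ) := by
  rw [mixedEmbedding.norm_eq_norm, Ideal.absNorm_span_singleton, ← Algebra.coe_norm_int, Nat.cast_natAbs,
    Int.cast_abs, Rat.cast_abs, Rat.cast_intCast]

theorem absNorm_ne_zero (I : (Ideal (𝓞 K))⁰) : Ideal.absNorm (I : Ideal (𝓞 K)) ≠ 0 :=
  Ideal.absNorm_ne_zero_of_nonZeroDivisors I

open scoped Classical in
theorem exists_pt_of_mem (J : (Ideal (𝓞 K))⁰) {a : 𝓞 K} (ha : a ∈ (J : Ideal (𝓞 K))) :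
    ∃ k, pt (fractionalIdealLatticeBasis K (FractionalIdeal.mk0 K J)) k = mixedEmbedding K (a : K) := by
  have hzJ : (a : K) ∈ ((FractionalIdeal.mk0 K J : FractionalIdeal (𝓞 K)⁰ K)) := by
    rw [FractionalIdeal.coe_mk0]
    exact FractionalIdeal.mem_coeIdeal_of_mem (𝓞 K)⁰ ha
  have hmem := (mem_span_fractionalIdealLatticeBasis K (FractionalIdeal.mk0 K J)).mpr
    (Set.mem_image_of_mem (mixedEmbedding K) hzJ)
  obtain ⟨k, hk⟩ := (Submodule.mem_span_range_iff_exists_fun ℤ).mp hmem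
  refine ⟨k, ?_⟩
  rw [← hk, pt, Basis.equivFun_symm_apply]
  exact Finset.sum_congr rfl fun i _ => Int.cast_smul_eq_zsmul ℝ _ _

open scoped Classical in
theorem exists_mem_of_pt (J : (Ideal (𝓞 K))⁰)
    (k : Free.ChooseBasisIndex ℤ (FractionalIdeal.mk0 K J : FractionalIdeal (𝓞 K)⁰ K) → ℤ) :
    ∃ a ∈ (J : Ideal (𝓞 K)), mixedEmbedding K (a : K) = pt (fractionalIdealLatticeBasis K (FractionalIdeal.mk0 K J)) k := by
  set b := fractionalIdealLatticeBasis K (FractionalIdeal.mk0 K J)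
  have hmem : pt b k ∈ Submodule.span ℤ (Set.range b) := by
    rw [pt, Basis.equivFun_symm_apply]
    refine Submodule.sum_mem _ fun i _ => ?_
    rw [Int.cast_smul_eq_zsmul ℝ]
    exact Submodule.smul_mem _ _ (Submodule.subset_span ⟨i, rfl⟩)
  obtain ⟨z, hz, hzk⟩ := (mem_span_fractionalIdealLatticeBasis K (FractionalIdeal.mk0 K J)).mp hmem
  rw [SetLike.mem_coe, FractionalIdeal.coe_mk0] at hz
  obtain ⟨a, ha, rfl⟩ := (FractionalIdeal.mem_coeIdeal _).mp hz
  exact ⟨a, ha, hzk⟩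

theorem exists_generator {C : ClassGroup (𝓞 K)} {J : (Ideal (𝓞 K))⁰} (hJ : ClassGroup.mk0 J = C⁻¹)
    (I : {I : (Ideal (𝓞 K))⁰ // ClassGroup.mk0 I = C}) :
    ∃ g : 𝓞 K, g ≠ 0 ∧ (I.1 : Ideal (𝓞 K)) * (J : Ideal (𝓞 K)) = Ideal.span {g} := by
  have h : ClassGroup.mk0 (I.1 * J) = 1 := by rw [map_mul, I.2, hJ, mul_inv_cancel]
  rw [ClassGroup.mk0_eq_one_iff (SetLike.coe_mem _)] at h
  obtain ⟨g, hg⟩ := h.principal
  refine ⟨g, fun hg0 => ?_, hg⟩
  subst hg0
  refine nonZeroDivisors.coe_ne_zero (I.1 * J) ?_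
  rw [hg, Ideal.zero_eq_bot]
  exact Submodule.span_zero_singleton _

theorem exists_rep {C : ClassGroup (𝓞 K)} {J : (Ideal (𝓞 K))⁰} (hJ : ClassGroup.mk0 J = C⁻¹)
    (g : {I : (Ideal (𝓞 K))⁰ // ClassGroup.mk0 I = C} → 𝓞 K)
    (hgI : ∀ I, (I.1 : Ideal (𝓞 K)) * (J : Ideal (𝓞 K)) = Ideal.span {g I}) {a : 𝓞 K}
    (haJ : a ∈ (J : Ideal (𝓞 K))) (ha0 : a ≠ 0) :
    ∃ (I : {I : (Ideal (𝓞 K))⁰ // ClassGroup.mk0 I = C}) (u : (𝓞 K)ˣ), (u : 𝓞 K) * g I = a := by
  obtain ⟨I, hI⟩ := Ideal.dvd_iff_le.mpr ((Ideal.span_singleton_le_iff_mem (J : Ideal (𝓞 K))).mpr haJ)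
  have hI0 : I ≠ 0 := fun h => by
    rw [h, mul_zero, Ideal.zero_eq_bot, Ideal.span_singleton_eq_bot] at hI
    exact ha0 hI
  let I' : (Ideal (𝓞 K))⁰ := ⟨I, mem_nonZeroDivisors_of_ne_zero hI0⟩
  have hmul : ((J * I' : (Ideal (𝓞 K))⁰) : Ideal (𝓞 K)) = Ideal.span {a} := hI.symm
  have hIC : ClassGroup.mk0 I' = C := by
    have h1 : ClassGroup.mk0 (J * I') = 1 :=
      (ClassGroup.mk0_eq_one_iff (SetLike.coe_mem _)).mpr ⟨⟨a, hmul⟩⟩
    rw [map_mul, hJ, inv_mul_eq_one] at h1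
    exact h1.symm
  have hspan : Ideal.span ({g ⟨I', hIC⟩} : Set (𝓞 K)) = Ideal.span {a} := by
    rw [← hgI, ← hmul, mul_comm]
    rfl
  obtain ⟨u, hu⟩ := Ideal.span_singleton_eq_span_singleton.mp hspan
  exact ⟨⟨I', hIC⟩, u, by rw [mul_comm]; exact hu⟩

open scoped Classical in
set_option maxHeartbeats 800000 in
/-- The ideals in one class as a weighted lattice sum. -/
theorem class_sum (C : ClassGroup (𝓞 K)) (J : (Ideal (𝓞 K))⁰) (hJ : ClassGroup.mk0 J = C⁻¹) {s : ℂ}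
    (hs : 1 < s.re) :
    (Summable fun I : {I : (Ideal (𝓞 K))⁰ // ClassGroup.mk0 I = C} =>
        (Ideal.absNorm (I.1 : Ideal (𝓞 K)) : ℝ) ^ (-s.re)) ∧
      latSum (fractionalIdealLatticeBasis K (FractionalIdeal.mk0 K J)) s =
        (torsionOrder K : ℂ) * (Ideal.absNorm (J : Ideal (𝓞 K)) : ℂ) ^ (-s) *
          ∑' I : {I : (Ideal (𝓞 K))⁰ // ClassGroup.mk0 I = C}, (Ideal.absNorm (I.1 : Ideal (𝓞 K)) : ℂ) ^ (-s) := by
  set b := fractionalIdealLatticeBasis K (FractionalIdeal.mk0 K J)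
  choose g hg0 hgI using fun I => exists_generator hJ I
  have hk : ∀ z : {I : (Ideal (𝓞 K))⁰ // ClassGroup.mk0 I = C} × (𝓞 K)ˣ,
      ∃ k, pt b k = mixedEmbedding K (((z.2 : 𝓞 K) * g z.1 : 𝓞 K) : K) := fun z => by
    have hgIJ : g z.1 ∈ (z.1.1 : Ideal (𝓞 K)) * (J : Ideal (𝓞 K)) := by
      rw [hgI]; exact Ideal.mem_span_singleton_self _
    exact exists_pt_of_mem J (Ideal.mul_mem_left _ _ (Ideal.mul_le_right hgIJ))
  choose Φ hΦ using hk
  have hΦinj : Function.Injective Φ := by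
    rintro ⟨I, u⟩ ⟨I', u'⟩ h
    have h1 := (hΦ (I, u)).symm.trans ((congrArg (pt b) h).trans (hΦ (I', u')))
    have h2 : (u : 𝓞 K) * g I = (u' : 𝓞 K) * g I' := RingOfIntegers.ext (mixedEmbedding_injective K h1)
    have h3 : Ideal.span ({g I} : Set (𝓞 K)) = Ideal.span {g I'} := by
      rw [← Ideal.span_singleton_mul_left_unit u.isUnit (g I), h2, Ideal.span_singleton_mul_left_unit u'.isUnit]
    rw [← hgI, ← hgI] at h3
    obtain rfl : I = I' := Subtype.ext (Subtype.ext (mul_right_cancel₀ (nonZeroDivisors.coe_ne_zero J) h3))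
    exact Prod.ext rfl (Units.ext (mul_right_cancel₀ (hg0 I) h2))
  have hrange : ∀ k, k ∉ Set.range Φ → wpow s (pt b k) = 0 := fun k hk => by
    by_cases h0 : k = 0
    · subst h0
      have : pt b 0 = 0 := by
        rw [pt]
        exact (congrArg _ (funext fun i => by simp)).trans (map_zero _)
      rw [this, wpow_zero]
    · refine absurd ?_ hk
      obtain ⟨a, haJ, hzk⟩ := exists_mem_of_pt J k
      have ha0 : a ≠ 0 := fun ha => pt_ne_zero b h0 (by rw [← hzk, ha, RingOfIntegers.coe_eq_algebraMap, map_zero, map_zero])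
      obtain ⟨I', u, hu⟩ := exists_rep hJ g hgI haJ ha0
      refine ⟨(I', u), ?_⟩
      have : pt b (Φ (I', u)) = pt b k := by
        rw [hΦ, ← hzk, hu]
      exact funext fun i => by simpa using congrFun (LinearEquiv.injective _ this) i
  set τ := (torsionOrder K : ℝ)
  have hterm : ∀ (z : {I : (Ideal (𝓞 K))⁰ // ClassGroup.mk0 I = C} × (𝓞 K)ˣ),
      wpow s (pt b (Φ z)) = (weight (z.2 • mixedEmbedding K (g z.1 : K)) : ℂ) *
        (((Ideal.absNorm (z.1.1 : Ideal (𝓞 K)) * Ideal.absNorm (J : Ideal (𝓞 K)) : ℕ) : ℂ) ^ (-s)) := fun z => by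
    rw [hΦ, show mixedEmbedding K (((z.2 : 𝓞 K) * g z.1 : 𝓞 K) : K) = z.2 • mixedEmbedding K (g z.1 : K) by
      rw [unitSMul_smul, ← map_mul]; rfl]
    unfold wpow
    congr 1
    rw [Complex.cpow_def_of_ne_zero (Nat.cast_ne_zero.mpr (mul_ne_zero (absNorm_ne_zero z.1.1) (absNorm_ne_zero J))),
      ← Complex.natCast_log, logNorm, norm_unit_smul, norm_mixedEmbedding_eq_absNorm, ← hgI, map_mul]
    rw [mul_comm]
  have hw : ∀ I : {I : (Ideal (𝓞 K))⁰ // ClassGroup.mk0 I = C},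
      HasSum (fun u : (𝓞 K)ˣ => weight (u • mixedEmbedding K (g I : K))) τ := fun I =>
    hasSum_weight_smul (by
      rw [norm_mixedEmbedding_eq_absNorm]
      exact_mod_cast (fun h => hg0 I (Ideal.span_singleton_eq_bot.mp (Ideal.absNorm_eq_zero_iff.mp h))))
  have hsum := summable_wpow b hs
  have hn := hsum.comp_injective hΦinj
  refine ⟨?_, ?_⟩
  · have e : ∀ z, ‖wpow s (pt b (Φ z))‖ = weight (z.2 • mixedEmbedding K (g z.1 : K)) *
        ((Ideal.absNorm (z.1.1 : Ideal (𝓞 K)) * Ideal.absNorm (J : Ideal (𝓞 K)) : ℕ) : ℝ) ^ (-s.re) := fun z => by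
      rw [hterm, norm_mul, Complex.norm_real, Real.norm_eq_abs, abs_of_nonneg (weight_nonneg _),
        Complex.norm_natCast_cpow_of_pos (Nat.pos_of_ne_zero (mul_ne_zero (absNorm_ne_zero z.1.1) (absNorm_ne_zero J))),
        Complex.neg_re]
    simp only [Function.comp_def, e] at hn
    have h := hn.prod
    simp only [tsum_mul_right, (hw _).tsum_eq] at h
    have hτ : τ ≠ 0 := by simpa [τ] using torsionOrder_ne_zero K
    rw [summable_mul_left_iff hτ] at h
    simp only [Nat.cast_mul, Real.mul_rpow (Nat.cast_nonneg _) (Nat.cast_nonneg _)] at h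
    refine (summable_mul_right_iff ?_).mp h
    exact (Real.rpow_pos_of_pos (Nat.cast_pos.mpr (Nat.pos_of_ne_zero (absNorm_ne_zero J))) _).ne'
  · rw [latSum, ← hΦinj.tsum_eq (fun k hk => by_contra fun h => hk (hrange k h))]
    have hn' : Summable fun z => wpow s (pt b (Φ z)) := hn.of_norm
    rw [hn'.tsum_prod, ← tsum_mul_left]
    refine tsum_congr fun I => ?_
    simp only [hterm]
    rw [tsum_mul_right, ← Complex.ofReal_tsum, (hw I).tsum_eq]
    push_cast
    rw [Complex.natCast_mul_natCast_cpow]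
    simp only [τ, Complex.ofReal_natCast]
    ring

theorem summable_absNorm {σ : ℝ} (hσ : 1 < σ) :
    Summable fun I : (Ideal (𝓞 K))⁰ => (Ideal.absNorm (I : Ideal (𝓞 K)) : ℝ) ^ (-σ) := by
  refine ((Equiv.sigmaFiberEquiv (ClassGroup.mk0 : (Ideal (𝓞 K))⁰ → ClassGroup (𝓞 K))).summable_iff).mp
    ((summable_sigma_of_nonneg fun _ => Real.rpow_nonneg (Nat.cast_nonneg _) _).mpr ⟨fun C => ?_, Summable.of_finite⟩)
  obtain ⟨J, hJ⟩ := ClassGroup.mk0_surjective C⁻¹
  simpa using (class_sum C J hJ (s := σ) (by simpa using hσ)).1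

/-- The norm of a prime of a number field. -/
noncomputable def primeNorm (v : HeightOneSpectrum (𝓞 K)) : ℕ := Ideal.absNorm v.asIdeal

theorem two_le_primeNorm (v : HeightOneSpectrum (𝓞 K)) : 2 ≤ primeNorm v := by
  have h0 : Ideal.absNorm v.asIdeal ≠ 0 := fun h => v.ne_bot (Ideal.absNorm_eq_zero_iff.mp h)
  have h1 : Ideal.absNorm v.asIdeal ≠ 1 := fun h => v.isPrime.ne_top (Ideal.absNorm_eq_one_iff.mp h)
  unfold primeNorm
  omega

theorem summable_primeNorm {σ : ℝ} (hσ : 1 < σ) :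
    Summable fun v : HeightOneSpectrum (𝓞 K) => (primeNorm v : ℝ) ^ (-σ) :=
  (summable_absNorm hσ).comp_injective
    (i := fun v : HeightOneSpectrum (𝓞 K) => (⟨v.asIdeal, mem_nonZeroDivisors_of_ne_zero v.ne_bot⟩ : (Ideal (𝓞 K))⁰))
    fun _ _ h => HeightOneSpectrum.ext (congrArg Subtype.val h)

variable (K) in
/-- Exponent vectors of primes are the non-zero ideals. -/
noncomputable def factorEquiv : (HeightOneSpectrum (𝓞 K) →₀ ℕ) ≃ (Ideal (𝓞 K))⁰ :=
  Equiv.ofBijective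
    (fun α => ⟨α.prod fun v n => v.asIdeal ^ n, mem_nonZeroDivisors_of_ne_zero
      (Finset.prod_ne_zero_iff.mpr fun v _ => pow_ne_zero _ v.ne_bot)⟩) <| by
  classical
  have key : ∀ α : HeightOneSpectrum (𝓞 K) →₀ ℕ, (α.prod fun v n => v.asIdeal ^ n) =
      ((Finsupp.toMultiset α).map HeightOneSpectrum.asIdeal).prod := fun α => by
    rw [Finsupp.toMultiset_map, Finsupp.prod_toMultiset, Finsupp.prod_mapDomain_index (fun _ => pow_zero _)
      fun _ _ _ => pow_add _ _ _]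
  have huniq : ∀ α : HeightOneSpectrum (𝓞 K) →₀ ℕ, UniqueFactorizationMonoid.normalizedFactors
      (α.prod fun v n => v.asIdeal ^ n) = (Finsupp.toMultiset α).map HeightOneSpectrum.asIdeal := fun α => by
    rw [key]
    exact UniqueFactorizationMonoid.normalizedFactors_prod_of_prime fun x hx => by
      obtain ⟨v, -, rfl⟩ := Multiset.mem_map.mp hx
      exact v.prime
  refine ⟨fun α β h => ?_, fun I => ?_⟩
  · have h' : (α.prod fun v n => v.asIdeal ^ n) = β.prod fun v n => v.asIdeal ^ n := congrArg Subtype.val h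
    have := (huniq α).symm.trans ((congrArg _ h').trans (huniq β))
    exact (Function.LeftInverse.injective Finsupp.toMultiset_toFinsupp) (Multiset.map_injective (fun _ _ h => HeightOneSpectrum.ext h) this)
  · let m := (UniqueFactorizationMonoid.normalizedFactors (I : Ideal (𝓞 K))).attach.map fun P =>
      (⟨P.1, Ideal.isPrime_of_prime (UniqueFactorizationMonoid.prime_of_normalized_factor _ P.2),
        (UniqueFactorizationMonoid.prime_of_normalized_factor _ P.2).ne_zero⟩ : HeightOneSpectrum (𝓞 K))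
    refine ⟨Multiset.toFinsupp m, Subtype.ext ?_⟩
    change ((Multiset.toFinsupp m).prod fun v n => v.asIdeal ^ n) = _
    rw [key, Multiset.toFinsupp_toMultiset, Multiset.map_map,
      show HeightOneSpectrum.asIdeal ∘ (fun P : {x // x ∈ UniqueFactorizationMonoid.normalizedFactors (I : Ideal (𝓞 K))} =>
        (⟨P.1, Ideal.isPrime_of_prime (UniqueFactorizationMonoid.prime_of_normalized_factor _ P.2),
          (UniqueFactorizationMonoid.prime_of_normalized_factor _ P.2).ne_zero⟩ : HeightOneSpectrum (𝓞 K))) =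
        Subtype.val from rfl,
      Multiset.attach_map_val]
    exact associated_iff_eq.mp (UniqueFactorizationMonoid.prod_normalizedFactors (nonZeroDivisors.coe_ne_zero I))

open Groth.L11.Zeta (norm')

theorem absNorm_factorEquiv (α : HeightOneSpectrum (𝓞 K) →₀ ℕ) :
    Ideal.absNorm (factorEquiv K α : Ideal (𝓞 K)) = norm' primeNorm α := by
  change Ideal.absNorm (α.prod fun v n => v.asIdeal ^ n) = α.prod fun v n => primeNorm v ^ n
  rw [map_finsuppProd]
  simp only [map_pow]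
  rfl

theorem dedekindZeta_eq_tsum {s : ℂ} (hs : 1 < s.re) :
    dedekindZeta K s = ∑' α : HeightOneSpectrum (𝓞 K) →₀ ℕ, (norm' primeNorm α : ℂ) ^ (-s) := by
  obtain ⟨σ, h1, h2⟩ := exists_between hs
  rw [← (Groth.L11.Zeta.lseries_eq_tsum two_le_primeNorm (by linarith) (summable_primeNorm h1) h2.le _
    fun n => rfl).2]
  refine LSeries_congr (fun {n} hn => ?_) s
  refine congrArg Nat.cast (Nat.card_congr ((Equiv.subtypeEquiv (q := fun I : (Ideal (𝓞 K))⁰ =>
      Ideal.absNorm (I : Ideal (𝓞 K)) = n) (factorEquiv K) fun α => ?_).trans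
    { toFun := fun I => ⟨I.1.1, I.2⟩
      invFun := fun I => ⟨⟨I.1, mem_nonZeroDivisors_of_ne_zero fun h => hn (by
        rw [← I.2, h]; exact Ideal.absNorm_bot)⟩, I.2⟩
      left_inv := fun _ => rfl
      right_inv := fun _ => rfl })).symm
  rw [absNorm_factorEquiv]

open scoped Classical in
/-- The continuation of the Dedekind zeta function. -/
theorem exists_dedekind_continuation : ∃ h : ℂ → ℂ,
    AnalyticOnNhd ℂ h {s | 1 - (finrank ℚ K : ℝ)⁻¹ < s.re} ∧ h 1 ≠ 0 ∧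
      ∀ s : ℂ, 1 < s.re → h s = (s - 1) * ∑' α : HeightOneSpectrum (𝓞 K) →₀ ℕ, (norm' primeNorm α : ℂ) ^ (-s) := by
  have hJ : ∀ C : ClassGroup (𝓞 K), ∃ J : (Ideal (𝓞 K))⁰, ClassGroup.mk0 J = C⁻¹ := fun C =>
    ClassGroup.mk0_surjective C⁻¹
  choose J hJ using hJ
  choose H hHa hH using fun C : ClassGroup (𝓞 K) =>
    exists_latSum_continuation (fractionalIdealLatticeBasis K (FractionalIdeal.mk0 K (J C)))
  let h : ℂ → ℂ := fun s =>
    ∑ C, (Ideal.absNorm (J C : Ideal (𝓞 K)) : ℂ) ^ s * H C s / (torsionOrder K : ℂ)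
  have ha : AnalyticOnNhd ℂ h {s | 1 - (finrank ℚ K : ℝ)⁻¹ < s.re} := by
    refine Finset.analyticOnNhd_fun_sum _ fun C _ => ?_
    refine AnalyticOnNhd.div ?_ analyticOnNhd_const fun _ _ => by simp [torsionOrder_ne_zero K]
    refine AnalyticOnNhd.mul (fun s _ => ?_) (hHa C)
    exact (differentiable_id.const_cpow (Or.inl (Nat.cast_ne_zero.mpr (absNorm_ne_zero _)))).analyticAt s
  have heq : ∀ s : ℂ, 1 < s.re →
      h s = (s - 1) * ∑' α : HeightOneSpectrum (𝓞 K) →₀ ℕ, (norm' primeNorm α : ℂ) ^ (-s) := fun s hs => by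
    have e := (factorEquiv K).tsum_eq fun I : (Ideal (𝓞 K))⁰ => (Ideal.absNorm (I : Ideal (𝓞 K)) : ℂ) ^ (-s)
    simp only [absNorm_factorEquiv] at e
    rw [e]
    let ef := Equiv.sigmaFiberEquiv (ClassGroup.mk0 : (Ideal (𝓞 K))⁰ → ClassGroup (𝓞 K))
    have hS : Summable fun I : (Ideal (𝓞 K))⁰ => (Ideal.absNorm (I : Ideal (𝓞 K)) : ℂ) ^ (-s) := by
      refine Summable.of_norm ((summable_absNorm hs).congr fun I => ?_)
      rw [Complex.norm_natCast_cpow_of_pos (Nat.pos_of_ne_zero (absNorm_ne_zero I)), Complex.neg_re]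
    have hS' := (ef.summable_iff).mpr hS
    simp only [Function.comp_def] at hS'
    rw [← ef.tsum_eq, hS'.tsum_sigma, tsum_fintype, Finset.mul_sum]
    refine Finset.sum_congr rfl fun C _ => ?_
    rw [hH C s hs, (class_sum C (J C) (hJ C) hs).2]
    have hn : (Ideal.absNorm (J C : Ideal (𝓞 K)) : ℂ) ^ s * (Ideal.absNorm (J C : Ideal (𝓞 K)) : ℂ) ^ (-s) = 1 := by
      rw [← Complex.cpow_add _ _ (Nat.cast_ne_zero.mpr (absNorm_ne_zero _)), add_neg_cancel, Complex.cpow_zero]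
    have hτ : (torsionOrder K : ℂ) ≠ 0 := Nat.cast_ne_zero.mpr (torsionOrder_ne_zero K)
    simp only [ef, Equiv.sigmaFiberEquiv_apply]
    rw [div_eq_iff hτ]
    linear_combination (exp := 1) ((s - 1) * (torsionOrder K : ℂ) *
      (∑' I : {I : (Ideal (𝓞 K))⁰ // ClassGroup.mk0 I = C}, (Ideal.absNorm (I.1 : Ideal (𝓞 K)) : ℂ) ^ (-s))) * hn
  refine ⟨h, ha, ?_, heq⟩
  have hd : (0 : ℝ) < finrank ℚ K := by exact_mod_cast finrank_pos
  have hc : ContinuousAt h 1 :=
    (ha 1 (show 1 - (finrank ℚ K : ℝ)⁻¹ < (1 : ℂ).re by simp [inv_pos.mpr hd])).continuousAt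
  have hlim : Filter.Tendsto (fun s : ℝ => h s) (nhdsWithin 1 (Set.Ioi 1)) (nhds (h 1)) := by
    have hc' : ContinuousAt (fun s : ℝ => h s) 1 :=
      (show ContinuousAt h ((1 : ℝ) : ℂ) by simpa using hc).comp Complex.continuous_ofReal.continuousAt
    simpa using hc'.tendsto.mono_left nhdsWithin_le_nhds
  have hres := tendsto_sub_one_mul_dedekindZeta_nhdsGT K
  have := tendsto_nhds_unique hlim (hres.congr' (eventually_nhdsWithin_of_forall fun s hs => ?_))
  · rw [this]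
    exact_mod_cast dedekindZeta_residue_ne_zero K
  · have hs' : 1 < (s : ℂ).re := by simpa using hs
    change ((s : ℂ) - 1) * dedekindZeta K s = h s
    rw [heq s hs', dedekindZeta_eq_tsum hs']

end Groth.L03.ZetaCont
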