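import Groth.Agent.L03.ZetaCont.HorizontalBase
import Groth.Agent.L03.ZetaCont.Dedekind
import Groth.Agent.L03.LangWeil.Main
import Mathlib.RingTheory.Ideal.Norm.AbsNorm

/-!
The prime sum of a horizontal piece agrees with that of its field of constants up to the half plane
`re s > n + 1/2`.
-/

set_option autoImplicit false
universe u

open NumberField IsDedekindDomain
open Groth.L11.Zeta (nm finite_hom finite_quotient exists_card_hom_le)
open Groth.L03.LangWeil (Over Est est_of_regular GenOver finite_over trdeg_eq)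

namespace Groth.L03.ZetaCont

variable {D : Type u} [CommRing D] [IsDomain D] [Algebra.FiniteType ℤ D]

theorem exists_ulift_field (p : ℕ) [Fact p.Prime] :
    ∃ (F : Type u) (_ : Field F) (_ : Finite F), CharP F p ∧ Nat.card F = p := by
  let F := ULift.{u} (ZMod p)
  letI : Field F := ULift.field
  refine ⟨F, inferInstance, inferInstance, (CharP.charP_iff_prime_eq_zero Fact.out).mpr ?_, ?_⟩
  · apply ULift.ext
    simp
  · rw [Nat.card_ulift, Nat.card_zmod]

/-- The homomorphisms that do not kill an element are the homomorphisms of the localization. -/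
theorem card_away_eq (A : Type u) [CommRing A] [Algebra D A] (g : D) [IsLocalization.Away g A] (F : Type u)
    [Field F] : Nat.card (A →+* F) = Nat.card {φ : D →+* F // φ g ≠ 0} :=
  Nat.card_congr
    { toFun := fun ψ => ⟨ψ.comp (algebraMap D A), ((IsLocalization.Away.algebraMap_isUnit g).map ψ).ne_zero⟩
      invFun := fun φ => IsLocalization.Away.lift g (g := φ.1) (isUnit_iff_ne_zero.mpr φ.2)
      left_inv := fun ψ => IsLocalization.ringHom_ext (Submonoid.powers g) (by
        rw [IsLocalization.Away.lift_comp])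
      right_inv := fun φ => Subtype.ext (IsLocalization.Away.lift_comp g _) }

/-- The maximal ideals of the integers of a number field. -/
noncomputable def maxEquivPrimes (K : Type u) [Field K] [NumberField K] : MaxId (𝓞 K) ≃ HeightOneSpectrum (𝓞 K) where
  toFun m := ⟨m.1, m.2.isPrime, fun h => RingOfIntegers.not_isField K (Ring.isField_iff_maximal_bot.mpr (h ▸ m.2))⟩
  invFun v := ⟨v.asIdeal, v.isMaximal⟩
  left_inv _ := rfl
  right_inv _ := rfl

theorem primeNorm_maxEquivPrimes (K : Type u) [Field K] [NumberField K] (m : MaxId (𝓞 K)) :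
    primeNorm (maxEquivPrimes K m) = nm (𝓞 K) m := by
  rw [primeNorm, nm, Ideal.absNorm_apply, Submodule.cardQuot_apply]
  rfl

theorem natCard_max_eq (K : Type u) [Field K] [NumberField K] (q : ℕ) :
    Nat.card {v : HeightOneSpectrum (𝓞 K) // primeNorm v = q} = Nat.card {m : MaxId (𝓞 K) // nm (𝓞 K) m = q} :=
  Nat.card_congr ((maxEquivPrimes K).subtypeEquiv fun m => by rw [primeNorm_maxEquivPrimes]).symm

omit [IsDomain D] [Algebra.FiniteType ℤ D] in
theorem exists_localization_model {K : Type u} [Field K] [NumberField K] {L : Type u} [Field L] [Algebra D L]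
    [IsFractionRing D L] [Algebra K L] [IsDomain D] [Algebra.FiniteType ℤ D] :
    ∃ g : D, g ≠ 0 ∧ ∃ A : Subalgebra (𝓞 K) L, A.FG ∧ GenOver A ∧ ∃ i : D →+* A,
      @IsLocalization.Away D _ g A _ i.toAlgebra := by
  classical
  obtain ⟨S, hS⟩ := (inferInstance : Module.Finite ℤ (𝓞 K)).fg_top
  choose num den hden hfrac using fun z : L => IsFractionRing.div_surjective (A := D) z
  let g : D := ∏ b ∈ S, den (algebraMap (𝓞 K) L b)
  have hg : g ≠ 0 := Finset.prod_ne_zero_iff.mpr fun b _ => nonZeroDivisors.ne_zero (hden _)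
  have hgL : algebraMap D L g ≠ 0 := (map_ne_zero_iff _ (IsFractionRing.injective D L)).mpr hg
  obtain ⟨T, hT⟩ := (Algebra.FiniteType.out : (⊤ : Subalgebra ℤ D).FG)
  let G : Set L := algebraMap D L '' (T : Set D) ∪ {(algebraMap D L g)⁻¹}
  let A : Subalgebra (𝓞 K) L := Algebra.adjoin (𝓞 K) G
  have hAfg : A.FG := Subalgebra.fg_def.mpr ⟨G, (T.finite_toSet.image _).union (Set.finite_singleton _), rfl⟩
  have hD : ∀ d : D, algebraMap D L d ∈ A := fun d => by
    have hd : d ∈ Algebra.adjoin ℤ (T : Set D) := hT ▸ Algebra.mem_top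
    induction hd using Algebra.adjoin_induction with
    | mem x hx => exact Algebra.subset_adjoin (Or.inl ⟨x, hx, rfl⟩)
    | algebraMap n => simpa using intCast_mem A n
    | add x y _ _ hx hy => rw [map_add]; exact add_mem hx hy
    | mul x y _ _ hx hy => rw [map_mul]; exact mul_mem hx hy
  have hinv : (algebraMap D L g)⁻¹ ∈ A := Algebra.subset_adjoin (Or.inr rfl)
  have hform : ∀ z ∈ A, ∃ (n : ℕ) (d : D), z * algebraMap D L g ^ n = algebraMap D L d := by
    have hbase : ∀ r : 𝓞 K, ∃ d : D, algebraMap (𝓞 K) L r * algebraMap D L g = algebraMap D L d := fun r => by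
      have hr : r ∈ Submodule.span ℤ (S : Set (𝓞 K)) := hS ▸ Submodule.mem_top
      induction hr using Submodule.span_induction with
      | mem b hb =>
        refine ⟨num (algebraMap (𝓞 K) L b) * ∏ b' ∈ S.erase b, den (algebraMap (𝓞 K) L b'), ?_⟩
        simp only [g]
        rw [← Finset.mul_prod_erase S _ hb, map_mul, map_mul, ← mul_assoc]
        congr 1
        have hd0 : algebraMap D L (den (algebraMap (𝓞 K) L b)) ≠ 0 :=
          (map_ne_zero_iff _ (IsFractionRing.injective D L)).mpr (nonZeroDivisors.ne_zero (hden _))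
        have h := hfrac (algebraMap (𝓞 K) L b)
        rw [div_eq_iff hd0] at h
        exact h.symm
      | zero => exact ⟨0, by simp⟩
      | add x y _ _ hx hy =>
        obtain ⟨d, hd⟩ := hx
        obtain ⟨d', hd'⟩ := hy
        exact ⟨d + d', by rw [map_add, add_mul, hd, hd', map_add]⟩
      | smul c x _ hx =>
        obtain ⟨d, hd⟩ := hx
        exact ⟨c • d, by rw [map_zsmul, smul_mul_assoc, hd, map_zsmul]⟩
    intro z hz
    induction hz using Algebra.adjoin_induction with
    | mem x hx =>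
      rcases hx with ⟨d, -, rfl⟩ | hx
      · exact ⟨0, d, by simp⟩
      · rw [Set.mem_singleton_iff] at hx
        subst hx
        exact ⟨1, 1, by simp [inv_mul_cancel₀ hgL]⟩
    | algebraMap r =>
      obtain ⟨d, hd⟩ := hbase r
      exact ⟨1, d, by rw [pow_one, hd]⟩
    | add x y _ _ hx hy =>
      obtain ⟨n, d, hd⟩ := hx
      obtain ⟨m, e, he⟩ := hy
      exact ⟨n + m, d * g ^ m + e * g ^ n, by
        rw [map_add, map_mul, map_mul, map_pow, map_pow, ← hd, ← he, pow_add]; ring⟩
    | mul x y _ _ hx hy =>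
      obtain ⟨n, d, hd⟩ := hx
      obtain ⟨m, e, he⟩ := hy
      exact ⟨n + m, d * e, by rw [map_mul, ← hd, ← he, pow_add]; ring⟩
  let i : D →+* A := (algebraMap D L).codRestrict A.toSubring hD
  refine ⟨g, hg, A, hAfg, fun z => ⟨_, hD (num z), _, hD (den z),
    (map_ne_zero_iff _ (IsFractionRing.injective D L)).mpr (nonZeroDivisors.ne_zero (hden z)), (hfrac z).symm⟩, i, ?_⟩
  letI : Algebra D A := i.toAlgebra
  refine IsLocalization.Away.mk g ?_ (fun z => ?_) fun a b h => ⟨0, ?_⟩
  · exact IsUnit.of_mul_eq_one ⟨_, hinv⟩ (Subtype.ext (mul_inv_cancel₀ hgL))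
  · obtain ⟨n, d, hd⟩ := hform z.1 z.2
    exact ⟨n, d, Subtype.ext (by simpa [RingHom.algebraMap_toAlgebra, i] using hd)⟩
  · rw [IsFractionRing.injective D L (congrArg Subtype.val h)]

theorem natAbs_norm_mem {K : Type u} [Field K] [NumberField K] {f : 𝓞 K} {p : ℕ} (hp : p.Prime) {F : Type u}
    [Field F] [CharP F p] (φ : 𝓞 K →+* F) (hφ : φ f = 0) : p ∣ Ideal.absNorm (Ideal.span {f}) := by
  have hmem : ((Ideal.absNorm (Ideal.span ({f} : Set (𝓞 K))) : ℕ) : 𝓞 K) ∈ Ideal.span ({f} : Set (𝓞 K)) :=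
    Ideal.absNorm_mem _
  obtain ⟨c, hc⟩ := Ideal.mem_span_singleton'.mp hmem
  rw [← CharP.cast_eq_zero_iff F p, ← map_natCast φ, ← hc, map_mul, hφ, mul_zero]

set_option maxHeartbeats 1000000 in
/-- The comparison of the prime sums. -/
theorem horizontal_aux [CharZero D] (L : Type u) [Field L] [Algebra D L] [IsFractionRing D L] {n : ℕ} (hdim : ringKrullDim D = ((n + 1 : ℕ) : WithBot ℕ∞)) :
    ∃ (K : Type u) (_ : Field K) (_ : NumberField K), ∀ σ : ℝ, (n : ℝ) + 1 / 2 < σ →
      LSeriesSummable (normCount (nm D) - shiftCoeff n (normCount (primeNorm : HeightOneSpectrum (𝓞 K) → ℕ)))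
        (σ : ℂ) := by
  classical
  haveI : CharZero L := charZero_of_injective_algebraMap (IsFractionRing.injective D L)
  letI : Algebra RatU.{u} L := ((algebraMap ℚ L).comp ratUEquiv.{u}.toRingHom).toAlgebra
  have htr := trdeg_eq_of_dim (D := D) (L := L) hdim
  haveI : IsScalarTower ℤ RatU.{u} L := IsScalarTower.of_algebraMap_eq' (R := ℤ) (S := RatU.{u}) (A := L) (Subsingleton.elim _ _)
  haveI : IsScalarTower ℚ RatU.{u} L := IsScalarTower.of_algebraMap_eq' (R := ℚ) (S := RatU.{u}) (A := L) (Subsingleton.elim _ _)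
  haveI : Algebra.EssFiniteType ℤ L :=
    haveI : Algebra.EssFiniteType D L := Algebra.EssFiniteType.of_isLocalization L (nonZeroDivisors D)
    Algebra.EssFiniteType.comp ℤ D L
  haveI : Algebra.EssFiniteType RatU.{u} L := Algebra.EssFiniteType.of_comp ℤ RatU.{u} L
  let K := algebraicClosure RatU.{u} L
  haveI hfd : FiniteDimensional RatU.{u} K := Groth.Agent.S6333.result (IntermediateField.fg_top RatU.{u} L)
  haveI : NumberField K :=
    { to_charZero := charZero_of_injective_algebraMap (algebraMap RatU.{u} K).injective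
      to_finiteDimensional :=
        haveI : IsScalarTower ℚ RatU.{u} K := IsScalarTower.of_algebraMap_eq' (Subsingleton.elim _ _)
        Module.Finite.trans RatU.{u} K }
  refine ⟨K, inferInstance, inferInstance, fun σ hσ => ?_⟩
  haveI : Algebra.EssFiniteType K L := Algebra.EssFiniteType.of_comp RatU.{u} K L
  obtain ⟨s, hs, hsep⟩ := exists_isTranscendenceBasis_and_isSeparable_of_perfectField K L
  let t : Fin s.card → L := fun i => (s.equivFin.symm i : L)
  have ht : AlgebraicIndependent K t := hs.1.comp _ s.equivFin.symm.injective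
  have hrange : Set.range t = (s : Set L) := by
    ext x
    exact ⟨fun ⟨j, hj⟩ => hj ▸ (s.equivFin.symm j).2, fun hx => ⟨s.equivFin ⟨x, hx⟩, by simp [t]⟩⟩
  haveI : Algebra.IsSeparable (IntermediateField.adjoin K (Set.range t)) L := by rw [hrange]; exact hsep
  have hclosed : ∀ z : L, IsIntegral K z → z ∈ Set.range (algebraMap K L) := fun z hz =>
    ⟨⟨z, mem_algebraicClosure_iff.mpr (isIntegral_trans (R := RatU.{u}) (A := K) z hz).isAlgebraic⟩, rfl⟩
  have hcard : s.card = n := by
    have h1 : Algebra.trdeg K L = n := by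
      have := trdeg_add_eq RatU.{u} K (A := L)
      rwa [trdeg_eq_zero (R := RatU.{u}) (A := K), zero_add, htr] at this
    have := (trdeg_eq ht).symm.trans h1
    exact_mod_cast this
  obtain ⟨g, hg, A, hA, hgen, i, hloc⟩ := exists_localization_model (D := D) (K := K) (L := L)
  obtain ⟨f, hf, C₁, hC₁⟩ := est_of_regular s.card (R := 𝓞 K) (K := K) t ht hclosed A hA hgen
  -- the auxiliary bounds
  haveI : @Algebra.FiniteType ℤ (D ⧸ Ideal.span {g}) _ _ (Ring.toIntAlgebra _) := finiteType_quotient _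
  obtain ⟨C₂, p₂, hC₂⟩ := exists_card_hom_le.{u, u} (A := D ⧸ Ideal.span {g})
    (ringKrullDim_quotient_le_pred hg hdim.le)
  obtain ⟨C₃, hC₃⟩ := exists_card_hom_le_pred.{u, u} (D := D) hdim.le
  haveI : Algebra.FiniteType ℤ (𝓞 K) := inferInstance
  obtain ⟨C₄, hC₄⟩ := exists_card_hom_le_pred.{u, u} (D := 𝓞 K) (n := 0)
    (Ring.krullDimLE_iff.mp (inferInstance : Ring.KrullDimLE 1 (𝓞 K)))
  set N₀ := Ideal.absNorm (Ideal.span ({f} : Set (𝓞 K)))
  have hN₀ : N₀ ≠ 0 := fun h => hf (Ideal.span_singleton_eq_bot.mp (Ideal.absNorm_eq_zero_iff.mp h))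
  let P₀ := p₂ + N₀ + 1
  let C : ℝ := C₄ * C₁ + C₂ + (C₃ + C₄) * Real.sqrt P₀ + C₃ + C₄
  refine summable_of_bound (C := C) (t₁ := (n : ℝ) - 1 / 2) (t₂ := n) (by linarith) (by linarith) fun q hq => ?_
  have hq0 : (0 : ℝ) < q := by exact_mod_cast Nat.pos_of_ne_zero hq
  simp only [Pi.sub_apply, normCount, shiftCoeff]
  rw [natCard_max_eq K q]
  have hzero : ∀ (B : Type u) [CommRing B] [Algebra.FiniteType ℤ B], ¬ IsPrimePow q →
      Nat.card {m : MaxId B // nm B m = q} = 0 := fun B _ _ hpp => by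
    haveI : IsEmpty {m : MaxId B // nm B m = q} := ⟨fun m => hpp (m.2 ▸ isPrimePow_nm m.1)⟩
    exact Nat.card_of_isEmpty
  have hind : 0 ≤ higherPow.indicator (fun m : ℕ => C * (m : ℝ) ^ (n : ℝ)) q :=
    Set.indicator_nonneg (fun _ _ => by positivity) _
  by_cases hpp : IsPrimePow q
  swap
  · rw [hzero D hpp, hzero (𝓞 K) hpp, Nat.cast_zero, mul_zero, sub_zero, norm_zero]
    exact add_nonneg (by positivity) hind
  obtain ⟨p, e, hp, he, rfl⟩ := (isPrimePow_nat_iff q).mp hpp
  haveI := Fact.mk hp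
  have hcast : ∀ a b : ℕ, ‖(a : ℂ) - (((p ^ e : ℕ) : ℂ)) ^ n * (b : ℂ)‖ = |(a : ℝ) - ((p ^ e : ℕ) : ℝ) ^ n * b| :=
    fun a b => by
      rw [← Real.norm_eq_abs, ← Complex.norm_real]
      push_cast
      rfl
  rw [hcast]
  set Q : ℝ := ((p ^ e : ℕ) : ℝ)
  have hQn : Q ^ (n : ℝ) = Q ^ n := Real.rpow_natCast _ _
  by_cases he1 : e = 1
  swap
  · -- higher prime powers
    have hmem : p ^ e ∈ higherPow := ⟨(⟨p, hp⟩, e - 2), by simp only; congr 1; omega⟩
    rw [Set.indicator_of_mem hmem]
    refine le_trans ?_ (le_add_of_nonneg_left (by positivity))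
    rw [hQn]
    haveI : NeZero e := ⟨by omega⟩
    let F := ULift.{u} (GaloisField p e)
    letI : Field F := ULift.field
    have hF : Nat.card F = p ^ e := by rw [Nat.card_ulift, GaloisField.card p e (by omega)]
    haveI : Finite F := Nat.finite_of_card_ne_zero (by rw [hF]; exact hq)
    have hb1 : (Nat.card {m : MaxId D // nm D m = p ^ e} : ℝ) ≤ C₃ * Q ^ n := by
      have := (card_max_le_card_hom (D := D) (F := F)).trans (hC₃ F)
      rw [hF] at this
      simp only [Q]; exact_mod_cast this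
    have hb2 : (Nat.card {m : MaxId (𝓞 K) // nm (𝓞 K) m = p ^ e} : ℝ) ≤ C₄ := by
      have := (card_max_le_card_hom (D := 𝓞 K) (F := F)).trans (hC₄ F)
      rw [hF, pow_zero, mul_one] at this
      exact_mod_cast this
    refine (abs_sub _ _).trans ?_
    rw [Nat.abs_cast, abs_of_nonneg (by positivity)]
    refine (add_le_add hb1 (mul_le_mul_of_nonneg_left hb2 (by positivity))).trans ?_
    have : (0 : ℝ) ≤ C₄ * C₁ + C₂ + (C₃ + C₄) * Real.sqrt P₀ := by positivity
    have hQ : 0 ≤ Q ^ n := by positivity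
    simp only [C]
    nlinarith
  subst he1
  simp only [pow_one] at *
  have hQ1 : Q = (p : ℝ) := by simp [Q]
  refine le_trans ?_ (le_add_of_nonneg_right hind)
  obtain ⟨F, _, _, hchar, hF⟩ := exists_ulift_field.{u} p
  haveI := hchar
  rw [card_max_eq_card_hom (D := D) hF, card_max_eq_card_hom (D := 𝓞 K) hF]
  have hD : (Nat.card (D →+* F) : ℝ) ≤ C₃ * Q ^ n := by
    have := hC₃ F; rw [hF] at this; rw [hQ1]; exact_mod_cast this
  have hK : (Nat.card (𝓞 K →+* F) : ℝ) ≤ C₄ := by
    have := hC₄ F; rw [hF, pow_zero, mul_one] at this; exact_mod_cast this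
  have hsq : 0 < Real.sqrt Q := Real.sqrt_pos.mpr (by rw [hQ1]; exact_mod_cast hp.pos)
  rw [show Q ^ ((n : ℝ) - 1 / 2) = Q ^ n / Real.sqrt Q by
    rw [Real.rpow_sub (by positivity), hQn, Real.sqrt_eq_rpow], mul_div_assoc', le_div_iff₀ hsq]
  by_cases hsmall : p < P₀
  · refine (mul_le_mul ((abs_sub _ _).trans (add_le_add (le_of_eq (Nat.abs_cast _))
      (le_of_eq (abs_of_nonneg (by positivity))))) (Real.sqrt_le_sqrt (y := (P₀ : ℝ)) (by
        rw [hQ1]; exact_mod_cast hsmall.le)) (Real.sqrt_nonneg _) (by positivity)).trans ?_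
    refine (mul_le_mul_of_nonneg_right (add_le_add hD (mul_le_mul_of_nonneg_left hK (by positivity)))
      (Real.sqrt_nonneg _)).trans ?_
    have h1 : (0 : ℝ) ≤ C₄ * C₁ + C₂ + C₃ + C₄ := by positivity
    have hQ : 0 ≤ Q ^ n := by positivity
    simp only [C]
    nlinarith
  · -- the good primes
    have hp₂ : p₂ ≤ p := by omega
    have hgood : ∀ φ : 𝓞 K →+* F, φ f ≠ 0 := fun φ h => by
      have := Nat.le_of_dvd (Nat.pos_of_ne_zero hN₀) (natAbs_norm_mem hp φ h)
      omega
    haveI := finite_hom (A := D) F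
    haveI := finite_hom (A := 𝓞 K) F
    haveI := Fintype.ofFinite (𝓞 K →+* F)
    haveI : Algebra.FiniteType (𝓞 K) A := (Subalgebra.fg_iff_finiteType _).mp hA
    letI : Algebra D A := i.toAlgebra
    haveI := hloc
    have hsplit : Nat.card (D →+* F) = Nat.card (A →+* F) + Nat.card (D ⧸ Ideal.span {g} →+* F) := by
      rw [card_away_eq (D := D) A g F, ← card_hom_eq_quotient_span, ← Nat.card_congr (Equiv.sumCompl fun φ : D →+* F => φ g ≠ 0),
        Nat.card_sum]
      congr 1
      exact Nat.card_congr (Equiv.subtypeEquivRight fun φ => not_not)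
    have hsig : Nat.card (A →+* F) = ∑ φ : 𝓞 K →+* F, Nat.card (Over φ A) := by
      haveI := fun φ : 𝓞 K →+* F => finite_over φ A
      rw [← Nat.card_sigma]
      exact Nat.card_congr
        { toFun := fun ψ => ⟨ψ.comp (algebraMap (𝓞 K) A), ψ, rfl⟩
          invFun := fun z => z.2.1
          left_inv := fun ψ => rfl
          right_inv := fun z => @Sigma.subtype_ext _ _
            (fun (φ : 𝓞 K →+* F) (χ : A →+* F) => χ.comp (algebraMap (𝓞 K) A) = φ) _ _ z.2.2 rfl }
    have hover : ∀ φ : 𝓞 K →+* F, |(Nat.card (Over φ A) : ℝ) - Q ^ n| * Real.sqrt Q ≤ C₁ * Q ^ n := fun φ => by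
      have := hC₁ F φ (hgood φ)
      rw [hF, hcard] at this
      rw [hQ1]; exact this
    have hquot : (Nat.card (D ⧸ Ideal.span {g} →+* F) : ℝ) * Q ≤ C₂ * Q ^ n := by
      have := (hC₂ p hp F).2.2 hp₂
      rw [hF] at this
      rw [hQ1]; exact_mod_cast this
    rw [hsplit, hsig, Nat.cast_add, Nat.cast_sum]
    have e : (∑ φ : 𝓞 K →+* F, (Nat.card (Over φ A) : ℝ)) + (Nat.card (D ⧸ Ideal.span {g} →+* F) : ℝ) -
        Q ^ n * (Nat.card (𝓞 K →+* F) : ℝ) =
        (∑ φ : 𝓞 K →+* F, ((Nat.card (Over φ A) : ℝ) - Q ^ n)) + (Nat.card (D ⧸ Ideal.span {g} →+* F) : ℝ) := by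
      rw [Finset.sum_sub_distrib, Finset.sum_const, Finset.card_univ, nsmul_eq_mul, ← Nat.card_eq_fintype_card]
      ring
    rw [e]
    refine (mul_le_mul_of_nonneg_right (abs_add_le _ _) (Real.sqrt_nonneg _)).trans ?_
    rw [add_mul, Nat.abs_cast]
    refine (add_le_add ((mul_le_mul_of_nonneg_right (Finset.abs_sum_le_sum_abs _ _) (Real.sqrt_nonneg _)))
      ((mul_le_mul_of_nonneg_left (Real.sqrt_le_iff.mpr ⟨by positivity, le_self_pow₀ (by rw [hQ1]; exact_mod_cast hp.one_le) two_ne_zero⟩)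
        (Nat.cast_nonneg _)).trans hquot)).trans ?_
    rw [Finset.sum_mul]
    refine (add_le_add ((Finset.sum_le_sum fun φ _ => hover φ).trans_eq (by
      rw [Finset.sum_const, Finset.card_univ, nsmul_eq_mul, ← Nat.card_eq_fintype_card])) le_rfl).trans ?_
    have hK' := mul_le_mul_of_nonneg_right hK (by positivity : (0 : ℝ) ≤ C₁ * Q ^ n)
    have h1 : (0 : ℝ) ≤ (C₃ + C₄) * Real.sqrt P₀ + C₃ + C₄ := by positivity
    have hQ : 0 ≤ Q ^ n := by positivity
    simp only [C]
    nlinarith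

/-- The comparison of the prime sums. -/
theorem horizontal [CharZero D] {n : ℕ} (hdim : ringKrullDim D = ((n + 1 : ℕ) : WithBot ℕ∞)) :
    ∃ (K : Type u) (_ : Field K) (_ : NumberField K), ∀ σ : ℝ, (n : ℝ) + 1 / 2 < σ →
      LSeriesSummable (normCount (nm D) - shiftCoeff n (normCount (primeNorm : HeightOneSpectrum (𝓞 K) → ℕ)))
        (σ : ℂ) :=
  horizontal_aux (FractionRing D) hdim

end Groth.L03.ZetaCont
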