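import Groth.Agent.L03.ZetaCont.Ring
import Groth.Agent.L11.Zeta.Lower
import Groth.Agent.L22.AffineDim
import Groth.Agent.S6333
import Mathlib.Algebra.Field.ULift
import Mathlib.RingTheory.AlgebraicIndependent.AlgebraicClosure

/-!
The field of constants and the transcendence degree of a finitely generated domain of characteristic zero.
-/

set_option autoImplicit false
universe u

namespace Groth.L03.ZetaCont

/-- The rational numbers in an arbitrary universe. -/
def RatU : Type u := ULift.{u} ℚ

noncomputable instance : Field RatU.{u} := inferInstanceAs (Field (ULift.{u} ℚ))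

/-- The rationals again. -/
noncomputable def ratUEquiv : RatU.{u} ≃+* ℚ := ULift.ringEquiv

instance : CharZero RatU.{u} := charZero_of_injective_ringHom (f := (ratUEquiv.{u}.symm : ℚ →+* RatU.{u})) ratUEquiv.symm.injective

instance : FiniteDimensional ℚ RatU.{u} :=
  Module.Finite.equiv (AlgEquiv.ofRingEquiv (f := ratUEquiv.{u}.symm) fun q => by simp).toLinearEquiv

instance : Algebra.IsAlgebraic ℤ RatU.{u} :=
  haveI : Algebra.IsAlgebraic ℤ ℚ := IsLocalization.isAlgebraic ℚ (nonZeroDivisors ℤ)
  (AlgEquiv.ofRingEquiv (f := ratUEquiv.{u}.symm) fun q => by simp : ℚ ≃ₐ[ℤ] RatU.{u}).isAlgebraic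

variable {D : Type u} [CommRing D] [IsDomain D] [CharZero D] [Algebra.FiniteType ℤ D]
  {L : Type u} [Field L] [Algebra D L] [IsFractionRing D L]

/-- The transcendence degree over the rationals is one less than the dimension. -/
theorem trdeg_eq_of_dim [Algebra RatU.{u} L] {n : ℕ} (hdim : ringKrullDim D = ((n + 1 : ℕ) : WithBot ℕ∞)) :
    Algebra.trdeg RatU.{u} L = n := by
  classical
  let M : Submonoid D := Algebra.algebraMapSubmonoid D (nonZeroDivisors ℤ)
  let G := Localization M
  have hM : M ≤ nonZeroDivisors D := by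
    rintro _ ⟨z, hz, rfl⟩
    exact mem_nonZeroDivisors_of_ne_zero (by simpa using nonZeroDivisors.ne_zero hz)
  haveI : IsDomain G := IsLocalization.isDomain_localization hM
  have hu : ∀ N : ℤ, N ≠ 0 → IsUnit ((N : G)) := fun N hN => by
    simpa using IsLocalization.map_units G (⟨algebraMap ℤ D N, N, mem_nonZeroDivisors_of_ne_zero hN, rfl⟩ : M)
  let j : ℚ →+* G := IsLocalization.lift (R := ℤ) (M := nonZeroDivisors ℤ) (S := ℚ) (g := Int.castRingHom G)
    fun y => by simpa using hu y (nonZeroDivisors.ne_zero y.2)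
  letI : Algebra RatU.{u} G := (j.comp (ratUEquiv.{u}).toRingHom).toAlgebra
  let jL : G →+* L := IsLocalization.lift (M := M) (g := algebraMap D L) fun m =>
    isUnit_iff_ne_zero.mpr ((map_ne_zero_iff _ (IsFractionRing.injective D L)).mpr (nonZeroDivisors.ne_zero (hM m.2)))
  letI : Algebra G L := jL.toAlgebra
  haveI : IsScalarTower D G L := IsScalarTower.of_algebraMap_eq fun z => (IsLocalization.lift_eq _ z).symm
  haveI : IsFractionRing G L := IsFractionRing.isFractionRing_of_isDomain_of_isLocalization M G L
  haveI : IsScalarTower RatU.{u} G L := IsScalarTower.of_algebraMap_eq' (R := RatU.{u}) (S := G) (A := L) (by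
    have key : (((algebraMap G L).comp (algebraMap RatU.{u} G)).comp (ratUEquiv.{u}).symm.toRingHom) =
        (algebraMap RatU.{u} L).comp (ratUEquiv.{u}).symm.toRingHom := Subsingleton.elim _ _
    refine RingHom.ext fun z => ?_
    obtain ⟨q, rfl⟩ := (ratUEquiv.{u}).symm.surjective z
    exact (DFunLike.congr_fun key q).symm)
  haveI : Algebra.FiniteType RatU.{u} G := by
    obtain ⟨S, hS⟩ := Algebra.FiniteType.out (R := ℤ) (A := D)
    refine ⟨⟨S.image (algebraMap D G), eq_top_iff.mpr fun b _ => ?_⟩⟩
    obtain ⟨a, m, rfl⟩ := IsLocalization.exists_mk'_eq M b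
    obtain ⟨N, hN, hm⟩ := m.2
    have h1 : algebraMap D G a ∈ Algebra.adjoin RatU.{u} (↑(S.image (algebraMap D G)) : Set G) := by
      have ha' : a ∈ Algebra.adjoin ℤ (S : Set D) := hS ▸ Algebra.mem_top
      clear * - ha'
      induction ha' using Algebra.adjoin_induction with
      | mem x hx => exact Algebra.subset_adjoin (Finset.mem_coe.mpr (Finset.mem_image_of_mem _ hx))
      | algebraMap n => simpa using intCast_mem _ n
      | add x y _ _ hx hy => rw [map_add]; exact add_mem hx hy
      | mul x y _ _ hx hy => rw [map_mul]; exact mul_mem hx hy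
    have hN0 : (N : RatU.{u}) ≠ 0 := fun h => nonZeroDivisors.ne_zero hN (by
      have := congrArg ratUEquiv.{u} h
      simpa using this)
    have h2 : IsLocalization.mk' G a m = algebraMap RatU.{u} G (N : RatU.{u})⁻¹ * algebraMap D G a := by
      have hm' : algebraMap D G m = algebraMap RatU.{u} G (N : RatU.{u}) := by
        rw [map_intCast, ← hm]; simp
      rw [← IsLocalization.mk'_spec G a m, hm', mul_comm (IsLocalization.mk' G a m), ← mul_assoc, ← map_mul,
        inv_mul_cancel₀ hN0, map_one, one_mul]
    rw [h2]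
    exact mul_mem (Subalgebra.algebraMap_mem _ _) h1
  obtain ⟨d, -, -, -, hd, -⟩ := Groth.L22.AffineDim.exists_normalization RatU.{u} G
  have htr := Groth.L22.AffineDim.trdeg_fractionRing RatU.{u} G L hd
  have hle : d + 1 ≤ n + 1 := Groth.L11.Zeta.ringKrullDim_generic_add_one_le (M := M) hu hd.ge hdim.le
  -- the lower bound
  haveI : Nonempty (PrimeSpectrum D) := inferInstance
  obtain ⟨l, hl⟩ := Order.le_krullDim_iff.mp hdim.ge
  have hhead : l.head.asIdeal = ⊥ := by
    by_contra h
    have hlt : (⟨⊥, Ideal.isPrime_bot⟩ : PrimeSpectrum D) < l.head := lt_of_le_of_ne bot_le fun he => h (by rw [← he])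
    have := (Order.LTSeries.length_le_krullDim (l.cons ⟨⊥, Ideal.isPrime_bot⟩ hlt)).trans hdim.le
    rw [RelSeries.cons_length, hl] at this
    norm_cast at this
    omega
  obtain ⟨c, k, x, hc, hcP, hx, hlen, -⟩ := Groth.L11.Zeta.exists_indMod l
  rw [hhead] at hcP hx
  have hc0 : c = 0 := by exact_mod_cast (Ideal.mem_bot.mp hcP)
  subst hc0
  simp only [if_true, hl] at hlen
  have hind : AlgebraicIndependent ℤ fun i => algebraMap D L (x i) := by
    have : AlgebraicIndependent ℤ x := algebraicIndependent_iff.mpr fun p hp => by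
      obtain ⟨q, hq⟩ := hx p (by rw [Ideal.mem_bot]; exact hp)
      simpa using hq
    exact (this.map' (f := (algebraMap D L).toIntAlgHom) (IsFractionRing.injective D L))
  haveI : IsScalarTower ℤ RatU.{u} L := IsScalarTower.of_algebraMap_eq' (Subsingleton.elim _ _)
  have h2 := (hind.extendScalars RatU.{u}).lift_cardinalMk_le_trdeg
  rw [htr] at h2 ⊢
  have h3 : k ≤ d := by simpa using h2
  exact_mod_cast le_antisymm (by omega) (by omega)

end Groth.L03.ZetaCont
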