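import Groth.Agent.L03.ZetaCont.Cone
import Mathlib.Algebra.Module.ZLattice.Summable
import Mathlib.Analysis.Complex.CauchyIntegral
import Mathlib.Analysis.Complex.LocallyUniformLimit
import Mathlib.Analysis.Analytic.IsolatedZeros
import Mathlib.Analysis.Calculus.DSlope
import Mathlib.Analysis.Complex.RemovableSingularity

/-!
The weighted lattice sum and its analytic continuation, by comparison with the sums over refined lattices.
-/

set_option autoImplicit false

open NumberField NumberField.mixedEmbedding Module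

namespace Groth.L03.ZetaCont

variable {K : Type*} [Field K] [NumberField K] {ι : Type*} [Fintype ι]

/-- The lattice point with given coordinates. -/
noncomputable def pt (b : Basis ι ℝ (mixedSpace K)) (k : ι → ℤ) : mixedSpace K := b.equivFun.symm fun i => (k i : ℝ)

/-- The offsets of a refined lattice. -/
noncomputable def off (b : Basis ι ℝ (mixedSpace K)) (m : ℕ) (ε : ι → Fin m) : mixedSpace K :=
  b.equivFun.symm fun i => ((ε i : ℕ) : ℝ) / m

/-- The weighted lattice sum. -/
noncomputable def latSum (b : Basis ι ℝ (mixedSpace K)) (s : ℂ) : ℂ := ∑' k : ι → ℤ, wpow s (pt b k)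

/-- Coordinates modulo `m`. -/
def splitEquiv (ι : Type*) (m : ℕ) [NeZero m] : (ι → ℤ) ≃ (ι → ℤ) × (ι → Fin m) :=
  (Equiv.piCongrRight fun _ => Int.divModEquiv m).trans (Equiv.arrowProdEquivProdArrow _ _ _)

theorem pt_split (b : Basis ι ℝ (mixedSpace K)) (m : ℕ) [NeZero m] (z : (ι → ℤ) × (ι → Fin m)) :
    pt b ((splitEquiv ι m).symm z) = (m : ℝ) • (pt b z.1 + off b m z.2) := by
  obtain ⟨q, ε⟩ := z
  unfold pt off
  rw [← map_add, ← map_smul]
  congr 1
  ext i
  have hm : (m : ℝ) ≠ 0 := NeZero.ne _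
  have : (splitEquiv ι m).symm (q, ε) i = q i * m + (ε i : ℕ) := by
    simp [splitEquiv, Int.divModEquiv, Equiv.arrowProdEquivProdArrow]
  simp only [this, Int.cast_add, Int.cast_mul, Int.cast_natCast, Pi.smul_apply, Pi.add_apply, smul_eq_mul]
  field_simp

open scoped Classical in
theorem summable_norm_pt (b : Basis ι ℝ (mixedSpace K)) {t : ℝ} (ht : (finrank ℚ K : ℝ) < t) :
    Summable fun k : ι → ℤ => ‖pt b k‖ ^ (-t) := by
  let L := Submodule.span ℤ (Set.range b)
  haveI : IsZLattice ℝ L := inferInstance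
  let bL : Basis ι ℤ L := b.restrictScalars ℤ
  have hr : Module.finrank ℤ L = finrank ℚ K := by
    rw [ZLattice.rank ℝ L, mixedEmbedding.finrank]
  have h := ZLattice.summable_norm_rpow L (-t) (by rw [hr]; linarith)
  refine ((bL.equivFun.symm.toEquiv.summable_iff).mpr h).congr fun k => ?_
  change ‖((bL.equivFun.symm k : L) : mixedSpace K)‖ ^ (-t) = _
  congr 2
  rw [pt, Basis.equivFun_symm_apply, Basis.equivFun_symm_apply, Submodule.coe_sum]
  refine Finset.sum_congr rfl fun i _ => ?_
  rw [Submodule.coe_smul, Basis.restrictScalars_apply, Int.cast_smul_eq_zsmul]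

theorem pt_ne_zero (b : Basis ι ℝ (mixedSpace K)) {k : ι → ℤ} (hk : k ≠ 0) : pt b k ≠ 0 := by
  intro h
  refine hk (funext fun i => ?_)
  have := congrFun ((LinearEquiv.map_eq_zero_iff _).mp h) i
  simpa using this

open scoped Classical in
theorem finite_pt_le (b : Basis ι ℝ (mixedSpace K)) (R : ℝ) : {k : ι → ℤ | ‖pt b k‖ ≤ R}.Finite := by
  rcases lt_or_ge R 0 with hR | hR
  · exact Set.Finite.subset Set.finite_empty fun k hk => absurd hk (not_le.mpr (hR.trans_le (norm_nonneg _)))
  set d := (finrank ℚ K : ℝ)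
  have h := (summable_norm_pt b (t := d + 1) (by linarith)).tendsto_cofinite_zero
  have hev := h.eventually (gt_mem_nhds (show 0 < (R + 1) ^ (-(d + 1)) by positivity))
  refine ((Filter.eventually_cofinite.mp hev).union (Set.finite_singleton 0)).subset fun k hk => ?_
  by_cases h0 : k = 0
  · exact Or.inr h0
  · refine Or.inl (not_lt.mpr ?_)
    exact Real.rpow_le_rpow_of_nonpos (norm_pos_iff.mpr (pt_ne_zero b h0))
      (by have : ‖pt b k‖ ≤ R := hk; linarith) (by simp only [Left.neg_nonpos_iff]; positivity)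

open scoped Classical in
theorem exists_norm_pow_le : ∃ c : ℝ, 0 < c ∧ ∀ (s : ℂ) (x : mixedSpace K), 0 ≤ s.re →
    ‖wpow s x‖ ≤ (c * ‖x‖) ^ (-((finrank ℚ K : ℝ) * s.re)) ∨ x = 0 := by
  obtain ⟨c, hc, -, hcone⟩ := exists_cone_bound (K := K)
  refine ⟨c, hc, fun s x hs => ?_⟩
  by_cases h0 : x = 0
  · exact Or.inr h0
  refine Or.inl ?_
  by_cases hw : weight x = 0
  · simp only [wpow, hw, Complex.ofReal_zero, zero_mul, norm_zero]
    positivity
  have hx0 : 0 < c * ‖x‖ := mul_pos hc (norm_pos_iff.mpr h0)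
  refine (norm_wpow_le s x).trans ?_
  rw [Real.rpow_def_of_pos hx0, Real.exp_le_exp]
  have h : (finrank ℚ K : ℝ) * Real.log (c * ‖x‖) ≤ logNorm x := by
    rw [logNorm_eq_sum fun w => (hx0.trans_le (hcone x hw w)).ne', ← InfinitePlace.sum_mult_eq, Nat.cast_sum,
      Finset.sum_mul]
    exact Finset.sum_le_sum fun w _ => mul_le_mul_of_nonneg_left (Real.log_le_log hx0 (hcone x hw w)) (Nat.cast_nonneg _)
  have := mul_le_mul_of_nonneg_left h hs
  nlinarith

open scoped Classical in
theorem summable_wpow (b : Basis ι ℝ (mixedSpace K)) {s : ℂ} (hs : 1 < s.re) :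
    Summable fun k : ι → ℤ => ‖wpow s (pt b k)‖ := by
  obtain ⟨c, hc, hb⟩ := exists_norm_pow_le (K := K)
  have hd : (0 : ℝ) < finrank ℚ K := by exact_mod_cast finrank_pos
  refine Summable.of_nonneg_of_le (fun _ => norm_nonneg _) (fun k => ?_)
    ((summable_norm_pt b (t := (finrank ℚ K : ℝ) * s.re) (lt_mul_of_one_lt_right hd hs)).mul_left
      (c ^ (-((finrank ℚ K : ℝ) * s.re))))
  rcases hb s (pt b k) (by linarith) with h | h
  · rwa [Real.mul_rpow hc.le (norm_nonneg _)] at h
  · rw [h, wpow_zero, norm_zero, norm_zero]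
    positivity

open scoped Classical in
/-- The sum of the differences with the refined lattice. -/
noncomputable def defect (b : Basis ι ℝ (mixedSpace K)) (m : ℕ) (s : ℂ) : ℂ :=
  ∑' q : ι → ℤ, ∑ ε : ι → Fin m, (wpow s (pt b q + off b m ε) - wpow s (pt b q))

open scoped Classical in
theorem defect_eq (b : Basis ι ℝ (mixedSpace K)) (m : ℕ) [NeZero m] {s : ℂ} (hs : 1 < s.re) :
    defect b m s = (Complex.exp (s * (finrank ℚ K * Real.log m : ℝ)) - (m : ℂ) ^ finrank ℚ K) * latSum b s := by
  have hT : Summable fun k : ι → ℤ => wpow s (pt b k) := (summable_wpow b hs).of_norm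
  have hcard : Fintype.card ι = finrank ℚ K := by
    rw [← mixedEmbedding.finrank K, Module.finrank_eq_card_basis b]
  set E := Complex.exp (-s * (finrank ℚ K * Real.log m : ℝ)) with hE
  have h1 : ∀ z, wpow s (pt b ((splitEquiv ι m).symm z)) = E * wpow s (pt b z.1 + off b m z.2) := fun z => by
    rw [pt_split, wpow_smul s (Nat.cast_pos.mpr (Nat.pos_of_neZero m))]
  have hS : Summable fun z : (ι → ℤ) × (ι → Fin m) => wpow s (pt b z.1 + off b m z.2) := by
    have := ((splitEquiv ι m).symm.summable_iff).mpr hT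
    simp only [Function.comp_def, h1] at this
    exact (summable_mul_left_iff (Complex.exp_ne_zero _)).mp this
  have h2 : latSum b s = E * ∑' q, ∑ ε : ι → Fin m, wpow s (pt b q + off b m ε) := by
    rw [latSum, ← (splitEquiv ι m).symm.tsum_eq, tsum_congr h1, tsum_mul_left, hS.tsum_prod]
    simp only [tsum_fintype]
  have hA : Summable fun q => ∑ ε : ι → Fin m, wpow s (pt b q + off b m ε) := by
    simpa only [tsum_fintype] using hS.prod
  have hB : Summable fun q => ∑ _ε : ι → Fin m, wpow s (pt b q) := summable_sum fun _ _ => hT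
  simp only [defect, Finset.sum_sub_distrib]
  rw [hA.tsum_sub hB]
  have h3 : (∑' q, ∑ ε : ι → Fin m, wpow s (pt b q + off b m ε)) =
      Complex.exp (s * (finrank ℚ K * Real.log m : ℝ)) * latSum b s := by
    rw [h2, hE, ← mul_assoc, ← Complex.exp_add, neg_mul, add_neg_cancel, Complex.exp_zero, one_mul]
  rw [h3, sub_mul, tsum_congr fun q => (Finset.sum_const (wpow s (pt b q))), Finset.card_univ, Fintype.card_fun,
    Fintype.card_fin, hcard]
  simp only [nsmul_eq_mul, Nat.cast_pow]
  rw [tsum_mul_left]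
  rfl

open scoped Classical in
set_option maxHeartbeats 800000 in
theorem differentiableOn_defect (b : Basis ι ℝ (mixedSpace K)) (m : ℕ) :
    DifferentiableOn ℂ (defect b m) {s | 1 - (finrank ℚ K : ℝ)⁻¹ < s.re} := by
  obtain ⟨c, hc, hc1, hsub⟩ := exists_wpow_sub_le (K := K)
  set d : ℝ := (finrank ℚ K : ℝ)
  have hd : 1 ≤ d := by
    have : 1 ≤ finrank ℚ K := finrank_pos
    simpa [d] using (Nat.one_le_cast (α := ℝ)).mpr this
  intro s₀ hs₀
  obtain ⟨σ₀, hσ₀, hσ₁⟩ := exists_between (show (1 - d⁻¹) < s₀.re from hs₀)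
  let U : Set ℂ := {s | σ₀ < s.re} ∩ Metric.ball 0 (‖s₀‖ + 1)
  have hU : IsOpen U := (isOpen_lt continuous_const Complex.continuous_re).inter Metric.isOpen_ball
  set R := ‖s₀‖ + 1
  obtain ⟨C, hC, hCb⟩ := hsub R
  let M := ∑ ε : ι → Fin m, ‖off b m ε‖
  let R₀ := max 1 (M / c)
  let S := (finite_pt_le b R₀).toFinset
  set t := d * σ₀ + 1
  have ht : d < t := by
    have h1 : 1 - d⁻¹ < σ₀ := hσ₀
    have h2 : d * (1 - d⁻¹) < d * σ₀ := mul_lt_mul_of_pos_left h1 (by linarith)
    rw [mul_sub, mul_inv_cancel₀ (by linarith)] at h2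
    simp only [t]; linarith
  have hσ0 : 0 ≤ σ₀ := by
    have : d⁻¹ ≤ 1 := inv_le_one_of_one_le₀ hd
    linarith
  let G : (ι → ℤ) → ℝ := fun q => Fintype.card (ι → Fin m) * (C * M * ‖pt b q‖ ^ (-t))
  let H : (ι → ℤ) → ℝ := fun q => ∑ ε : ι → Fin m,
    (Real.exp (R * |logNorm (pt b q + off b m ε)|) + Real.exp (R * |logNorm (pt b q)|))
  let u : (ι → ℤ) → ℝ := fun q => G q + (S : Set (ι → ℤ)).indicator H q
  have hu : Summable u :=
    (((summable_norm_pt b ht).mul_left _).mul_left _).add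
      (summable_of_ne_finset_zero (s := S) fun q hq => Set.indicator_of_notMem (by simpa using hq) _)
  have hbound : ∀ (q : ι → ℤ) (s : ℂ), s ∈ U →
      ‖∑ ε : ι → Fin m, (wpow s (pt b q + off b m ε) - wpow s (pt b q))‖ ≤ u q := by
    intro q s hs
    have hsR : ‖s‖ ≤ R := by simpa using (Metric.mem_ball.mp hs.2).le
    have hs0 : 0 ≤ s.re := hσ0.trans (le_of_lt hs.1)
    have hG0 : 0 ≤ G q := by positivity
    refine (norm_sum_le _ _).trans ?_
    by_cases hq : q ∈ S
    · refine le_trans ?_ (le_add_of_nonneg_left hG0)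
      rw [Set.indicator_of_mem (by simpa using hq)]
      refine Finset.sum_le_sum fun ε _ => (norm_sub_le _ _).trans (add_le_add ?_ ?_) <;>
        exact (norm_wpow_le' s _).trans (Real.exp_le_exp.mpr (mul_le_mul_of_nonneg_right hsR (abs_nonneg _)))
    · simp only [u, Set.indicator_of_notMem (show q ∉ (S : Set (ι → ℤ)) by simpa using hq), add_zero, G]
      have hq' : R₀ < ‖pt b q‖ := by simpa [S] using hq
      have h1 : 1 ≤ ‖pt b q‖ := (le_max_left _ _).trans hq'.le
      have hMq : M ≤ c * ‖pt b q‖ := by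
        rw [← div_le_iff₀' hc]
        exact (le_max_right _ _).trans hq'.le
      refine (Finset.sum_le_card_nsmul _ _ (C * M * ‖pt b q‖ ^ (-t)) fun ε _ => ?_).trans_eq (nsmul_eq_mul _ _)
      have hεM : ‖off b m ε‖ ≤ M :=
        Finset.single_le_sum (f := fun ε : ι → Fin m => ‖off b m ε‖) (fun _ _ => norm_nonneg _) (Finset.mem_univ ε)
      have hne : pt b q ≠ 0 := norm_pos_iff.mp (by linarith)
      refine (hCb s hs0 hsR (pt b q) (pt b q + off b m ε) hne ?_).trans ?_
      · rw [sub_add_cancel_left, norm_neg]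
        exact hεM.trans hMq
      · rw [sub_add_cancel_left, norm_neg]
        refine mul_le_mul (mul_le_mul_of_nonneg_left hεM hC) ?_ (Real.rpow_nonneg (norm_nonneg _) _)
          (mul_nonneg hC ((norm_nonneg _).trans hεM))
        refine Real.rpow_le_rpow_of_exponent_le h1 ?_
        have := mul_le_mul_of_nonneg_left (le_of_lt hs.1) (by linarith : (0 : ℝ) ≤ d)
        simp only [t]
        linarith
  have hdiff := Complex.differentiableOn_tsum_of_summable_norm hu
    (fun q => DifferentiableOn.fun_sum fun ε _ =>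
      ((differentiable_wpow _).sub (differentiable_wpow _)).differentiableOn) hU hbound
  exact (hdiff.differentiableAt (hU.mem_nhds ⟨hσ₁, by simp⟩)).differentiableWithinAt

section Continuation

variable {d : ℝ}

/-- The multiplier. -/
noncomputable def mult' (d : ℝ) (m : ℕ) (s : ℂ) : ℂ :=
  Complex.exp (s * (d * Real.log m : ℝ)) - Complex.exp ((d * Real.log m : ℝ))

theorem differentiable_mult' (d : ℝ) (m : ℕ) : Differentiable ℂ (mult' d m) := by
  unfold mult'
  fun_prop

theorem mult'_eq (d : ℝ) (m : ℕ) (s : ℂ) : mult' d m s = (s - 1) * dslope (mult' d m) 1 s := by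
  have h1 : mult' d m 1 = 0 := by simp [mult']
  have := sub_smul_dslope (mult' d m) 1 s
  rw [h1, sub_zero, smul_eq_mul] at this
  exact this.symm

theorem dslope_mult'_one_ne_zero {d : ℝ} (hd : d ≠ 0) {m : ℕ} (hm : 2 ≤ m) : dslope (mult' d m) 1 1 ≠ 0 := by
  rw [dslope_same]
  have h : HasDerivAt (mult' d m)
      (Complex.exp (1 * (d * Real.log m : ℝ)) * ((d * Real.log m : ℝ) : ℂ)) 1 := by
    unfold mult'
    exact ((hasDerivAt_mul_const _).cexp).sub_const _
  rw [h.deriv]
  refine mul_ne_zero (Complex.exp_ne_zero _) (Complex.ofReal_ne_zero.mpr (mul_ne_zero hd ?_))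
  exact (Real.log_pos (by exact_mod_cast hm)).ne'

theorem differentiable_dslope_mult' (d : ℝ) (m : ℕ) : Differentiable ℂ (dslope (mult' d m) 1) := fun s =>
  ((Complex.differentiableOn_dslope (Filter.univ_mem (f := nhds (1 : ℂ)))).mpr
    (differentiable_mult' d m).differentiableOn).differentiableAt Filter.univ_mem

theorem eq_one_of_mult'_eq_zero {d : ℝ} (hd : d ≠ 0) {s : ℂ} (h2 : mult' d 2 s = 0) (h3 : mult' d 3 s = 0) :
    s = 1 := by
  have key : ∀ m : ℕ, mult' d m s = 0 →
      ∃ a : ℤ, (s - 1) * ((d * Real.log m : ℝ) : ℂ) = a * (2 * Real.pi * Complex.I) := fun m h => by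
    rw [mult', sub_eq_zero, Complex.exp_eq_exp_iff_exists_int] at h
    obtain ⟨a, ha⟩ := h
    exact ⟨a, by rw [sub_mul, ha]; ring⟩
  obtain ⟨a, ha⟩ := key 2 h2
  obtain ⟨b, hb⟩ := key 3 h3
  have hd' : ((d : ℝ) : ℂ) ≠ 0 := Complex.ofReal_ne_zero.mpr hd
  have hπ : (2 * Real.pi * Complex.I : ℂ) ≠ 0 := by simp [Real.pi_ne_zero]
  by_cases ha0 : a = 0
  · rw [ha0, Int.cast_zero, zero_mul, mul_eq_zero] at ha
    rcases ha with ha | ha
    · exact sub_eq_zero.mp ha
    · exact absurd (Complex.ofReal_eq_zero.mp ha) (mul_ne_zero hd (Real.log_pos (by norm_num)).ne')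
  · exfalso
    have h : ((a : ℝ) * Real.log 3 - b * Real.log 2 : ℝ) = 0 := by
      have : (((a : ℝ) * Real.log 3 - b * Real.log 2 : ℝ) : ℂ) * (2 * Real.pi * Complex.I) = 0 := by
        have e1 := congrArg (fun z => z * ((Real.log 3 : ℝ) : ℂ)) ha
        have e2 := congrArg (fun z => z * ((Real.log 2 : ℝ) : ℂ)) hb
        simp only [Nat.cast_ofNat, Complex.ofReal_mul] at e1 e2
        push_cast
        linear_combination e2 - e1
      exact Complex.ofReal_eq_zero.mp ((mul_eq_zero.mp this).resolve_right hπ)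
    rw [sub_eq_zero] at h
    have e : Real.log ((3 : ℝ) ^ a.natAbs) = Real.log ((2 : ℝ) ^ b.natAbs) := by
      rw [Real.log_pow, Real.log_pow]
      have h' := congrArg abs h
      rw [abs_mul, abs_mul, abs_of_pos (Real.log_pos (by norm_num : (1 : ℝ) < 3)),
        abs_of_pos (Real.log_pos (by norm_num : (1 : ℝ) < 2))] at h'
      simpa [Nat.cast_natAbs, Int.cast_abs] using h'
    have e' : (3 : ℕ) ^ a.natAbs = 2 ^ b.natAbs := by
      exact_mod_cast Real.log_injOn_pos (Set.mem_Ioi.mpr (by positivity)) (Set.mem_Ioi.mpr (by positivity)) e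
    have hb0 : b.natAbs ≠ 0 := fun hb0 => by
      rw [hb0, pow_zero] at e'
      exact ha0 (Int.natAbs_eq_zero.mp ((Nat.pow_eq_one.mp e').resolve_left (by norm_num)))
    have h2d : 2 ∣ (3 : ℕ) ^ a.natAbs := e' ▸ dvd_pow_self 2 hb0
    have := Nat.prime_two.dvd_of_dvd_pow h2d
    omega

/-- A function satisfying the two functional relations continues with at most a simple pole at `1`. -/
theorem exists_continuation {d : ℝ} (hd : d ≠ 0) {a : ℝ} (ha : a < 1) {T : ℂ → ℂ} {D : ℕ → ℂ → ℂ}
    (hD : ∀ m ∈ ({2, 3} : Finset ℕ), DifferentiableOn ℂ (D m) {s | a < s.re})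
    (hrel : ∀ m ∈ ({2, 3} : Finset ℕ), ∀ s : ℂ, 1 < s.re → D m s = mult' d m s * T s) :
    ∃ h : ℂ → ℂ, AnalyticOnNhd ℂ h {s | a < s.re} ∧ ∀ s : ℂ, 1 < s.re → h s = (s - 1) * T s := by
  set U : Set ℂ := {s | a < s.re}
  have hU : IsOpen U := isOpen_lt continuous_const Complex.continuous_re
  set e : ℕ → ℂ → ℂ := fun m => dslope (mult' d m) 1
  have he : ∀ m s, mult' d m s = (s - 1) * e m s := mult'_eq d
  have hA : ∀ m ∈ ({2, 3} : Finset ℕ), AnalyticOnNhd ℂ (D m) U := fun m hm => (hD m hm).analyticOnNhd hU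
  have hAe : ∀ m, AnalyticOnNhd ℂ (e m) U := fun m s _ => (differentiable_dslope_mult' d m).analyticAt s
  have hsym : Set.EqOn (fun s => D 2 s * e 3 s) (fun s => D 3 s * e 2 s) U := by
    refine ((hA 2 (by simp)).mul (hAe 3)).eqOn_of_preconnected_of_eventuallyEq ((hA 3 (by simp)).mul (hAe 2))
      (convex_halfSpace_re_gt a).isPreconnected (z₀ := 2) (show a < (2 : ℂ).re by simpa using ha.trans one_lt_two) ?_
    filter_upwards [(isOpen_lt continuous_const Complex.continuous_re).mem_nhds
      (show (1 : ℝ) < (2 : ℂ).re by simp)] with s hs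
    change D 2 s * e 3 s = D 3 s * e 2 s
    rw [hrel 2 (by simp) s hs, hrel 3 (by simp) s hs, he, he]
    ring
  let h : ℂ → ℂ := fun s => if e 2 s ≠ 0 then D 2 s / e 2 s else D 3 s / e 3 s
  have hor : ∀ s, e 2 s ≠ 0 ∨ e 3 s ≠ 0 := fun s => by
    by_cases hs : s = 1
    · subst hs
      exact Or.inl (dslope_mult'_one_ne_zero hd le_rfl)
    · by_contra hcon
      push Not at hcon
      exact hs (eq_one_of_mult'_eq_zero hd (by rw [he, hcon.1, mul_zero]) (by rw [he, hcon.2, mul_zero]))
  refine ⟨h, fun s₀ hs₀ => ?_, fun s hs => ?_⟩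
  · rcases hor s₀ with hne | hne
    · refine ((hA 2 (by simp) s₀ hs₀).div (hAe 2 s₀ hs₀) hne).congr ?_
      filter_upwards [(hAe 2 s₀ hs₀).continuousAt.eventually_ne hne] with s hs
      simp [h, hs]
    · refine ((hA 3 (by simp) s₀ hs₀).div (hAe 3 s₀ hs₀) hne).congr ?_
      filter_upwards [(hAe 3 s₀ hs₀).continuousAt.eventually_ne hne, hU.mem_nhds hs₀] with s hs hsU
      change D 3 s / e 3 s = h s
      by_cases h2 : e 2 s = 0
      · simp [h, h2]
      · simp only [h, if_pos h2, ne_eq, h2, not_false_iff]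
        rw [div_eq_div_iff hs h2]
        exact (hsym hsU).symm
  · have hsU : s ∈ U := ha.trans hs
    simp only [h]
    split_ifs with h2
    · rw [hrel 2 (by simp) s hs, he, mul_right_comm, mul_div_assoc, div_self h2, mul_one]
    · rw [hrel 3 (by simp) s hs, he, mul_right_comm, mul_div_assoc, div_self ((hor s).resolve_left h2), mul_one]

end Continuation

open scoped Classical in
/-- The weighted lattice sum continues to the left of the line `re s = 1`. -/
theorem exists_latSum_continuation (b : Basis ι ℝ (mixedSpace K)) :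
    ∃ h : ℂ → ℂ, AnalyticOnNhd ℂ h {s | 1 - (finrank ℚ K : ℝ)⁻¹ < s.re} ∧
      ∀ s : ℂ, 1 < s.re → h s = (s - 1) * latSum b s := by
  have hd : (0 : ℝ) < finrank ℚ K := by exact_mod_cast finrank_pos
  refine exists_continuation hd.ne' (by linarith [inv_pos.mpr hd]) (D := defect b)
    (fun m _ => differentiableOn_defect b m) fun m hm s hs => ?_
  haveI : NeZero m := ⟨by rcases Finset.mem_insert.mp hm with rfl | h <;> [norm_num; (simp at h; omega)]⟩
  rw [defect_eq b m hs, mult']
  congr 2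
  have hm0 : (0 : ℝ) < m := Nat.cast_pos.mpr (Nat.pos_of_neZero m)
  rw [← Complex.ofReal_exp, Real.exp_nat_mul, Real.exp_log hm0]
  push_cast
  rfl

end Groth.L03.ZetaCont
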