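import Groth.Agent.L03.ZetaCont.Ring
import Groth.Agent.L03.LangWeil.Domain
import Groth.Agent.L11.Zeta.Counts
import Mathlib.NumberTheory.Divisors
import Mathlib.Analysis.SpecialFunctions.Complex.LogBounds
import Mathlib.Algebra.Field.ULift

/-!
The prime sum of a piece over a prime field, up to the half plane `re s > r - 1/2`.
-/

set_option autoImplicit false
universe u

open Groth.L11.Zeta (nm finite_hom finite_quotient finite_nm_eq)
open Groth.L03.LangWeil (Over exists_domain_count)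

namespace Groth.L03.ZetaCont

/-- The coefficients of the logarithm of `1 / (1 - p ^ (m (r - s)))`. -/
noncomputable def vertCoeff (p m r : ℕ) (n : ℕ) : ℂ :=
  if n = (p ^ m) ^ Nat.log (p ^ m) n then (n : ℂ) ^ r / Nat.log (p ^ m) n else 0

variable {p m r : ℕ}

theorem vertCoeff_pow (hp : 2 ≤ p) (hm : 0 < m) (j : ℕ) :
    vertCoeff p m r ((p ^ m) ^ j) = (((p ^ m) ^ j : ℕ) : ℂ) ^ r / j := by
  have h : 1 < p ^ m := Nat.one_lt_pow hm.ne' (by omega)
  rw [vertCoeff, Nat.log_pow h, if_pos rfl]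

theorem exp_lseries_vertCoeff (hp : 2 ≤ p) (hm : 0 < m) {s : ℂ} (hs : (r : ℝ) < s.re) :
    LSeriesSummable (vertCoeff p m r) s ∧
      Complex.exp (LSeries (vertCoeff p m r) s) = (1 - ((p ^ m : ℕ) : ℂ) ^ ((r : ℂ) - s))⁻¹ := by
  have h1 : 1 < p ^ m := Nat.one_lt_pow hm.ne' (by omega)
  set z := ((p ^ m : ℕ) : ℂ) ^ ((r : ℂ) - s)
  have hz : ‖z‖ < 1 := by
    rw [Complex.norm_natCast_cpow_of_pos (by omega)]
    exact Real.rpow_lt_one_of_one_lt_of_neg (by exact_mod_cast h1) (by simpa using hs)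
  have hinj : Function.Injective fun j : ℕ => (p ^ m) ^ j := Nat.pow_right_injective h1
  have hterm : ∀ j : ℕ, LSeries.term (vertCoeff p m r) s ((p ^ m) ^ j) = z ^ j / j := fun j => by
    have hne : (p ^ m) ^ j ≠ 0 := pow_ne_zero _ (by omega)
    rw [LSeries.term_of_ne_zero hne, vertCoeff_pow hp hm, div_right_comm]
    congr 1
    rw [← Complex.cpow_natCast (((p ^ m) ^ j : ℕ) : ℂ) r, ← Complex.cpow_sub _ _ (Nat.cast_ne_zero.mpr hne),
      ← Complex.cpow_nat_mul, Complex.natCast_cpow_natCast_mul, ← Nat.cast_pow]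
  have hzero : ∀ n, n ∉ Set.range (fun j : ℕ => (p ^ m) ^ j) → LSeries.term (vertCoeff p m r) s n = 0 := fun n hn => by
    rcases eq_or_ne n 0 with rfl | hn0
    · exact LSeries.term_zero _ _
    · rw [LSeries.term_of_ne_zero hn0, vertCoeff, if_neg fun h => hn ⟨_, h.symm⟩, zero_div]
  have hsum : HasSum (LSeries.term (vertCoeff p m r) s) (-Complex.log (1 - z)) := by
    rw [← hinj.hasSum_iff hzero]
    simpa [Function.comp_def, hterm] using Complex.hasSum_taylorSeries_neg_log hz
  refine ⟨hsum.summable, ?_⟩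
  rw [show LSeries (vertCoeff p m r) s = -Complex.log (1 - z) from hsum.tsum_eq, Complex.exp_neg, Complex.exp_log]
  intro h
  rw [← sub_eq_zero.mp h, norm_one] at hz
  exact lt_irrefl _ hz

variable {D : Type u} [CommRing D] [IsDomain D] [Algebra.FiniteType ℤ D]

/-- The homomorphisms to a finite field, sorted by their kernels. -/
theorem card_hom_eq_sum {k : Type u} [Field k] [Finite k] [Algebra k D] (F : Type u) [Field F] [Algebra k F]
    [Finite F] :
    Nat.card (D →ₐ[k] F) = ∑ δ ∈ (Module.finrank k F).divisors,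
      δ * Nat.card {m : MaxId D // nm D m = Nat.card k ^ δ} := by
  classical
  haveI : ∀ m : MaxId D, Finite (D ⧸ m.1) := fun m => finite_quotient m
  have hnm : ∀ m : MaxId D, nm D m = Nat.card k ^ Module.finrank k (D ⧸ m.1) := fun m =>
    Module.natCard_eq_pow_finrank
  have hk : 1 < Nat.card k := Finite.one_lt_card
  have hdeg : ∀ (δ : ℕ) (m : MaxId D), nm D m = Nat.card k ^ δ → Module.finrank k (D ⧸ m.1) = δ := fun δ m h =>
    Nat.pow_right_injective hk ((hnm m).symm.trans h)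
  haveI : ∀ δ : ℕ, Finite {m : MaxId D // nm D m = Nat.card k ^ δ} := fun δ => (finite_nm_eq _).to_subtype
  haveI := fun δ : ℕ => Fintype.ofFinite {m : MaxId D // nm D m = Nat.card k ^ δ}
  let T := Σ δ : (Module.finrank k F).divisors, Σ m : {m : MaxId D // nm D m = Nat.card k ^ (δ : ℕ)},
    (D ⧸ m.1.1) →ₐ[k] F
  have hcard : Nat.card T = ∑ δ ∈ (Module.finrank k F).divisors,
      δ * Nat.card {m : MaxId D // nm D m = Nat.card k ^ δ} := by
    haveI : ∀ (δ : (Module.finrank k F).divisors) (m : {m : MaxId D // nm D m = Nat.card k ^ (δ : ℕ)}),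
        Finite ((D ⧸ m.1.1) →ₐ[k] F) := fun δ m => Finite.of_injective (fun φ => (φ : (D ⧸ m.1.1) → F)) DFunLike.coe_injective
    rw [Nat.card_sigma, ← Finset.sum_coe_sort (Module.finrank k F).divisors]
    refine Finset.sum_congr rfl fun δ _ => ?_
    have hd : (δ : ℕ) ∣ Module.finrank k F := (Nat.mem_divisors.mp δ.2).1
    rw [Nat.card_sigma, Finset.sum_congr rfl (fun m _ => ?_), Finset.sum_const, Finset.card_univ, smul_eq_mul,
      ← Nat.card_eq_fintype_card, mul_comm]
    haveI := m.1.2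
    letI := Ideal.Quotient.field m.1.1
    rw [FiniteField.natCard_algHom_of_finrank_dvd (by rwa [hdeg _ _ m.2]), hdeg _ _ m.2]
  rw [← hcard]
  symm
  have hker : ∀ z : T, RingHom.ker (z.2.2.comp (Ideal.Quotient.mkₐ k z.2.1.1.1) : D →ₐ[k] F).toRingHom = z.2.1.1.1 := fun z => by
    haveI := z.2.1.1.2
    letI := Ideal.Quotient.field z.2.1.1.1
    ext a
    rw [RingHom.mem_ker]
    change z.2.2 (Ideal.Quotient.mk _ a) = 0 ↔ _
    exact (map_eq_zero z.2.2).trans Ideal.Quotient.eq_zero_iff_mem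
  refine Nat.card_eq_of_bijective (fun z : T => z.2.2.comp (Ideal.Quotient.mkₐ k z.2.1.1.1)) ⟨?_, fun φ => ?_⟩
  · rintro ⟨⟨δ, hδ⟩, ⟨m, hm⟩, φ⟩ ⟨⟨δ', hδ'⟩, ⟨m', hm'⟩, φ'⟩ h
    have hk1 := (hker ⟨⟨δ, hδ⟩, ⟨m, hm⟩, φ⟩).symm.trans
      ((congrArg (fun f : D →ₐ[k] F => RingHom.ker f.toRingHom) h).trans (hker ⟨⟨δ', hδ'⟩, ⟨m', hm'⟩, φ'⟩))
    obtain rfl : m = m' := Subtype.ext hk1
    obtain rfl : δ = δ' := (hdeg δ m hm).symm.trans (hdeg δ' m hm')
    obtain rfl : φ = φ' := Ideal.Quotient.algHom_ext k h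
    rfl
  · haveI : (RingHom.ker φ.toRingHom).IsPrime := RingHom.ker_isPrime _
    haveI hfin : Finite (D ⧸ RingHom.ker φ.toRingHom) :=
      Finite.of_injective _ (RingHom.kerLift_injective φ.toRingHom)
    have hmax : (RingHom.ker φ.toRingHom).IsMaximal :=
      Ideal.Quotient.maximal_of_isField _ (Finite.isField_of_domain _)
    let m : MaxId D := ⟨RingHom.ker φ.toRingHom, hmax⟩
    letI := Ideal.Quotient.field m.1
    let ψ : (D ⧸ m.1) →ₐ[k] F := Ideal.Quotient.liftₐ m.1 φ fun a ha => ha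
    have hdvd : Module.finrank k (D ⧸ m.1) ∣ Module.finrank k F :=
      FiniteField.nonempty_algHom_iff_finrank_dvd.mp ⟨ψ⟩
    exact ⟨⟨⟨Module.finrank k (D ⧸ m.1), Nat.mem_divisors.mpr ⟨hdvd, Module.finrank_pos.ne'⟩⟩, ⟨m, hnm m⟩, ψ⟩,
      AlgHom.ext fun a => rfl⟩

theorem card_over_eq_card_algHom {k : Type u} [Field k] [Algebra k D] (F : Type u) [Field F] [Algebra k F] :
    Nat.card (Over (algebraMap k F) D) = Nat.card (D →ₐ[k] F) :=
  Nat.card_congr
    { toFun := fun ψ => { ψ.1 with commutes' := fun c => ψ.commutes c }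
      invFun := fun φ => ⟨φ.toRingHom, φ.comp_algebraMap⟩
      left_inv := fun ψ => rfl
      right_inv := fun φ => rfl }

set_option maxHeartbeats 1000000 in
theorem vertical_aux (L : Type u) [Field L] [Algebra D L] [IsFractionRing D L] (k : Type u) [Field k] [Finite k]
    [Algebra k D] [Algebra.FiniteType k D] [Algebra k L] [IsScalarTower k D L] {p : ℕ} (hp : 2 ≤ p)
    (hk : Nat.card k = p) {r : ℕ} (hr : ringKrullDim D = (r : WithBot ℕ∞)) (hr1 : 1 ≤ r) :
    ∃ m : ℕ, 0 < m ∧ ∀ σ : ℝ, (r : ℝ) - 1 / 2 < σ →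
      LSeriesSummable (normCount (nm D) - vertCoeff p m r) (σ : ℂ) := by
  classical
  obtain ⟨hfd, C, hC⟩ := exists_domain_count (k := k) D L hr
  set m := Module.finrank k (algebraicClosure k L) with hmdef
  have hm : 0 < m := Module.finrank_pos
  refine ⟨m, hm, fun σ hσ => ?_⟩
  set B : ℝ := (m : ℝ) + C with hBdef
  have hB0 : 0 ≤ B := by positivity
  have hcount : ∀ e : ℕ, 0 < e →
      (if m ∣ e then |((∑ δ ∈ e.divisors, δ * Nat.card {M : MaxId D // nm D M = p ^ δ} : ℕ) : ℝ) -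
          m * ((p : ℝ) ^ e) ^ r| * Real.sqrt ((p : ℝ) ^ e) ≤ C * ((p : ℝ) ^ e) ^ r
        else ((∑ δ ∈ e.divisors, δ * Nat.card {M : MaxId D // nm D M = p ^ δ} : ℕ) : ℝ) * (p : ℝ) ^ e ≤
          C * ((p : ℝ) ^ e) ^ r) := fun e he => by
    obtain ⟨F, _, _, _, rfl⟩ := Groth.L11.ZetaCounts.exists_extension (k := k) e he
    have hF : (Nat.card F : ℝ) = (p : ℝ) ^ Module.finrank k F := by
      rw [Module.natCard_eq_pow_finrank (K := k) (V := F), hk, Nat.cast_pow]
    have h := hC F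
    rw [card_over_eq_card_algHom, card_hom_eq_sum (k := k) F, hk, hF] at h
    split_ifs with hdvd
    · exact h.1 hdvd
    · exact h.2 hdvd
  have htot : ∀ e : ℕ, 0 < e →
      ((∑ δ ∈ e.divisors, δ * Nat.card {M : MaxId D // nm D M = p ^ δ} : ℕ) : ℝ) ≤ B * ((p : ℝ) ^ e) ^ r := fun e he => by
    have h := hcount e he
    have hq1 : (1 : ℝ) ≤ (p : ℝ) ^ e := one_le_pow₀ (by exact_mod_cast (by omega : 1 ≤ p))
    have hpos : (0 : ℝ) ≤ ((p : ℝ) ^ e) ^ r := by positivity
    rw [hBdef, add_mul]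
    split_ifs at h with hdvd
    · have h2 := (le_mul_of_one_le_right (abs_nonneg _) (Real.one_le_sqrt.mpr hq1)).trans h
      linarith [(abs_le.mp h2).2]
    · have h2 := (le_mul_of_one_le_right (Nat.cast_nonneg _) hq1).trans h
      have : (0 : ℝ) ≤ m * ((p : ℝ) ^ e) ^ r := by positivity
      linarith
  refine summable_of_bound_pow (C := C + B) (t := (r : ℝ) - 1 / 2) (p := p) hp hσ (fun n hn => ?_) fun e => ?_
  · have h0 : IsEmpty {M : MaxId D // nm D M = n} := ⟨fun M => by
      haveI := M.1.2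
      haveI : Finite (D ⧸ M.1.1) := finite_quotient M.1
      haveI : Nontrivial (D ⧸ M.1.1) := Ideal.Quotient.nontrivial_iff.mpr M.1.2.ne_top
      have h := M.2
      rw [nm, Module.natCard_eq_pow_finrank (K := k), hk] at h
      exact hn (Module.finrank k (D ⧸ M.1.1) - 1) (by
        rw [Nat.sub_add_cancel (Module.finrank_pos (R := k) (M := D ⧸ M.1.1))]; exact h.symm)⟩
    simp only [Pi.sub_apply, normCount, Nat.card_of_isEmpty, Nat.cast_zero, zero_sub, neg_eq_zero, vertCoeff]
    split_ifs with h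
    · rcases Nat.eq_zero_or_pos (Nat.log (p ^ m) n) with h0' | h0'
      · simp [h0']
      · refine absurd (h.trans (pow_mul p m _).symm) ?_
        rw [← Nat.sub_add_cancel (Nat.mul_pos hm h0')]
        exact hn _
    · rfl
  · set E := e + 1 with hEdef
    have hE : 0 < E := Nat.succ_pos e
    set c := Nat.card {M : MaxId D // nm D M = p ^ E} with hcdef
    set b : ℝ := if m ∣ E then (m : ℝ) * ((p : ℝ) ^ E) ^ r else 0 with hbdef
    have hv : vertCoeff p m r (p ^ E) = ((b / E : ℝ) : ℂ) := by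
      rw [hbdef]
      split_ifs with hdvd
      · obtain ⟨j, hj⟩ := hdvd
        have hj0 : j ≠ 0 := fun h => by rw [h, mul_zero] at hj; omega
        rw [hj, pow_mul p m j, vertCoeff_pow hp hm]
        push_cast
        have : (m : ℂ) ≠ 0 := Nat.cast_ne_zero.mpr hm.ne'
        have : (j : ℂ) ≠ 0 := Nat.cast_ne_zero.mpr hj0
        rw [← pow_mul (p : ℂ) m j]
        field_simp
      · rw [vertCoeff, if_neg, zero_div, Complex.ofReal_zero]
        intro h
        rw [← pow_mul] at h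
        exact hdvd ⟨_, Nat.pow_right_injective hp h⟩
    simp only [Pi.sub_apply, normCount, ← hcdef, hv]
    rw [← Complex.ofReal_natCast c, ← Complex.ofReal_sub, Complex.norm_real, Real.norm_eq_abs]
    set q : ℝ := (p : ℝ) ^ E with hqdef
    have hq1 : 1 ≤ q := one_le_pow₀ (by exact_mod_cast (by omega : 1 ≤ p))
    have hq0 : 0 < q := zero_lt_one.trans_le hq1
    have hsq : 0 < Real.sqrt q := Real.sqrt_pos.mpr hq0
    rw [Nat.cast_pow, ← hqdef, Real.rpow_sub hq0, Real.rpow_natCast, ← Real.sqrt_eq_rpow, mul_div_assoc',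
      le_div_iff₀ hsq]
    have hsum : ((∑ δ ∈ E.divisors, δ * Nat.card {M : MaxId D // nm D M = p ^ δ} : ℕ) : ℝ) =
        (E : ℝ) * c + ∑ δ ∈ E.properDivisors, (δ : ℝ) * Nat.card {M : MaxId D // nm D M = p ^ δ} := by
      rw [← Nat.cons_self_properDivisors hE.ne', Finset.sum_cons]
      push_cast
      rfl
    set R := ∑ δ ∈ E.properDivisors, (δ : ℝ) * Nat.card {M : MaxId D // nm D M = p ^ δ} with hRdef
    have hR : R * Real.sqrt q ≤ (E : ℝ) * (B * q ^ r) := by
      rw [hRdef, Finset.sum_mul]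
      refine (Finset.sum_le_card_nsmul _ _ (B * q ^ r) fun δ hδ => ?_).trans ?_
      · obtain ⟨hdvd, hlt⟩ := Nat.mem_properDivisors.mp hδ
        have hδ0 : 0 < δ := Nat.pos_of_dvd_of_pos hdvd hE
        have hhalf : 2 * δ ≤ E := by
          obtain ⟨j, hj⟩ := hdvd
          have h2j : 2 ≤ j := by
            by_contra hj2
            interval_cases j <;> omega
          rw [hj, mul_comm 2 δ]
          exact Nat.mul_le_mul_left δ h2j
        have h1 : (δ : ℝ) * Nat.card {M : MaxId D // nm D M = p ^ δ} ≤ B * ((p : ℝ) ^ δ) ^ r := by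
          refine le_trans ?_ (htot δ hδ0)
          push_cast
          exact Finset.single_le_sum (f := fun d : ℕ => (d : ℝ) * (Nat.card {M : MaxId D // nm D M = p ^ d} : ℝ))
            (fun d _ => mul_nonneg (Nat.cast_nonneg d) (Nat.cast_nonneg _)) (Nat.mem_divisors_self δ hδ0.ne')
        refine (mul_le_mul_of_nonneg_right h1 hsq.le).trans ?_
        rw [mul_assoc]
        refine mul_le_mul_of_nonneg_left ?_ hB0
        have h2 : (((p : ℝ) ^ δ) ^ r) ^ 2 ≤ q ^ r := by
          rw [← pow_mul, mul_comm r 2, pow_mul, ← pow_mul (p : ℝ), hqdef, mul_comm δ 2]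
          exact pow_le_pow_left₀ (by positivity) (pow_le_pow_right₀ (by exact_mod_cast (by omega : 1 ≤ p)) hhalf) r
        have h3 : Real.sqrt q ≤ Real.sqrt (q ^ r) := Real.sqrt_le_sqrt (le_self_pow₀ hq1 (by omega))
        have h4 : ((p : ℝ) ^ δ) ^ r ≤ Real.sqrt (q ^ r) := Real.le_sqrt_of_sq_le h2
        exact (mul_le_mul h4 h3 hsq.le (Real.sqrt_nonneg _)).trans_eq (Real.mul_self_sqrt (by positivity))
      · rw [nsmul_eq_mul]
        refine mul_le_mul_of_nonneg_right ?_ (by positivity)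
        have : E.properDivisors.card ≤ (Finset.range E).card :=
          Finset.card_le_card fun x hx => Finset.mem_range.mpr (Nat.mem_properDivisors.mp hx).2
        rw [Finset.card_range] at this
        exact_mod_cast this
    have hR0 : 0 ≤ R := Finset.sum_nonneg fun _ _ => by positivity
    have hmain : |(E : ℝ) * c + R - b| * Real.sqrt q ≤ C * q ^ r := by
      have h := hcount E hE
      rw [hsum] at h
      rw [hbdef]
      split_ifs at h ⊢ with hdvd
      · exact h
      · rw [sub_zero, abs_of_nonneg (by positivity)]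
        refine le_trans (mul_le_mul_of_nonneg_left ?_ (by positivity)) h
        exact Real.sqrt_le_iff.mpr ⟨hq0.le, by nlinarith⟩
    have hE' : (0 : ℝ) < E := Nat.cast_pos.mpr hE
    rw [show (c : ℝ) - b / E = ((E : ℝ) * c + R - b - R) / E by field_simp; ring, abs_div, abs_of_pos hE', div_mul_eq_mul_div,
      div_le_iff₀ hE']
    refine (mul_le_mul_of_nonneg_right (abs_sub _ _) hsq.le).trans ?_
    rw [add_mul, abs_of_nonneg hR0]
    refine (add_le_add hmain hR).trans ?_
    have hE1 : (1 : ℝ) ≤ E := Nat.one_le_cast.mpr hE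
    have : (0 : ℝ) ≤ C * q ^ r := by positivity
    nlinarith

/-- The prime sum of a domain over a prime field. -/
theorem vertical {p : ℕ} [Fact p.Prime] (hp : (p : D) = 0) {r : ℕ} (hr : ringKrullDim D = (r : WithBot ℕ∞))
    (hr1 : 1 ≤ r) :
    ∃ m : ℕ, 0 < m ∧ ∀ σ : ℝ, (r : ℝ) - 1 / 2 < σ →
      LSeriesSummable (normCount (nm D) - vertCoeff p m r) (σ : ℂ) := by
  let k := ULift.{u} (ZMod p)
  letI : Field k := ULift.field
  haveI : CharP D p := (CharP.charP_iff_prime_eq_zero Fact.out).mpr hp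
  letI : Algebra k D := ((ZMod.castHom (dvd_refl p) D).comp (ULift.ringEquiv (R := ZMod p)).toRingHom).toAlgebra
  haveI : IsScalarTower ℤ k D := IsScalarTower.of_algebraMap_eq' (R := ℤ) (S := k) (A := D) (Subsingleton.elim _ _)
  haveI : Algebra.FiniteType k D := Algebra.FiniteType.of_restrictScalars_finiteType ℤ k D
  exact vertical_aux (FractionRing D) k (Fact.out : p.Prime).two_le (by rw [Nat.card_ulift, Nat.card_zmod]) hr hr1

end Groth.L03.ZetaCont
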