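import Groth.Agent.L03.ZetaCont.Pieces
import Groth.Agent.L03.ZetaCont.Horizontal
import Groth.Agent.L03.ZetaCont.Vertical
import Mathlib.AlgebraicGeometry.Noetherian
import Mathlib.Analysis.Meromorphic.Order

/-!
The zeta function of an arithmetic scheme to the left of its abscissa.
-/

set_option autoImplicit false
universe u

open AlgebraicGeometry CategoryTheory
open Groth.L11.Zeta (ptNorm nm norm' cweight two_le_ptNorm summable_ptNorm finite_nm_eq)

namespace Groth.L03.ZetaCont

/-- The exponential of a Dirichlet series with a simple pole at `r`, apart from an analytic denominator. -/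
def HasPole (r : ℕ) (b : ℕ → ℂ) : Prop :=
  ∃ a : ℝ, a < r ∧ ∃ h e : ℂ → ℂ, AnalyticOnNhd ℂ h (halfPlane a) ∧ AnalyticOnNhd ℂ e (halfPlane a) ∧
    h r ≠ 0 ∧ e r ≠ 0 ∧ ∀ s : ℂ, (r : ℝ) < s.re → LSeriesSummable b s ∧
      Complex.exp (LSeries b s) = h s / ((s - r) * e s)

/-- The same, with no other pole. -/
def HasSimplePole (r : ℕ) (b : ℕ → ℂ) : Prop :=
  ∃ a : ℝ, a < r ∧ ∃ h : ℂ → ℂ, AnalyticOnNhd ℂ h (halfPlane a) ∧
    h r ≠ 0 ∧ ∀ s : ℂ, (r : ℝ) < s.re → LSeriesSummable b s ∧
      Complex.exp (LSeries b s) = h s / (s - r)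

theorem HasSimplePole.hasPole {r : ℕ} {b : ℕ → ℂ} (h : HasSimplePole r b) : HasPole r b := by
  obtain ⟨a, ha, g, hg, hg0, h⟩ := h
  exact ⟨a, ha, g, fun _ => 1, hg, analyticOnNhd_const, hg0, one_ne_zero, fun s hs => by simpa using h s hs⟩

theorem hasSimplePole_shift (K : Type u) [Field K] [NumberField K] (n : ℕ) :
    HasSimplePole (n + 1) (shiftCoeff n (normCount (primeNorm : IsDedekindDomain.HeightOneSpectrum
      (NumberField.RingOfIntegers K) → ℕ))) := by
  obtain ⟨hK, ha, h1, heq⟩ := exists_dedekind_continuation (K := K)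
  have hd : (0 : ℝ) < Module.finrank ℚ K := by exact_mod_cast Module.finrank_pos
  set N : IsDedekindDomain.HeightOneSpectrum (NumberField.RingOfIntegers K) → ℕ := primeNorm
  set a₀ : ℝ := max (1 / 2) (1 - (Module.finrank ℚ K : ℝ)⁻¹)
  have ha0 : a₀ < 1 := max_lt (by norm_num) (by linarith [inv_pos.mpr hd])
  have hrem : AnalyticOnNhd ℂ (logRem N) (halfPlane a₀) :=
    analyticOnNhd_logRem two_le_primeNorm (le_max_of_le_left (by norm_num)) fun σ hσ =>
      summable_primeNorm (by linarith [(le_max_left _ _ : (1 / 2 : ℝ) ≤ a₀)])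
  refine ⟨n + a₀, by push_cast; linarith, fun s => hK (s - n) * Complex.exp (-logRem N (s - n)), fun s hs => ?_, ?_,
    fun s hs => ?_⟩
  · have hs' : a₀ < (s - (n : ℂ)).re := by
      simp only [Complex.sub_re, Complex.natCast_re]
      have : (n : ℝ) + a₀ < s.re := hs
      linarith
    have hshift : AnalyticAt ℂ (fun z : ℂ => z - (n : ℂ)) s := analyticAt_id.sub analyticAt_const
    refine AnalyticAt.mul ?_ ?_
    · exact AnalyticAt.fun_comp (f := fun z : ℂ => z - (n : ℂ)) (x := s)
        (ha (s - n) (lt_of_le_of_lt (le_max_right _ _) hs')) hshift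
    · exact (AnalyticAt.fun_comp (f := fun z : ℂ => z - (n : ℂ)) (x := s) (hrem (s - n) hs') hshift).neg.cexp
  · push_cast
    rw [add_sub_cancel_left]
    exact mul_ne_zero h1 (Complex.exp_ne_zero _)
  · have hs' : 1 < (s - (n : ℂ)).re := by
      simp only [Complex.sub_re, Complex.natCast_re]
      push_cast at hs
      linarith
    obtain ⟨σ, hσ1, hσ2⟩ := exists_between hs'
    obtain ⟨hsum, hL⟩ := tsum_cweight_eq_lseries (two_le_primeNorm (K := K)) (summable_primeNorm (K := K) hσ1) hσ2.le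
    refine ⟨?_, ?_⟩
    · change Summable (LSeries.term (shiftCoeff n (normCount N)) s)
      rw [term_shiftCoeff]
      exact hsum
    · have hLs : LSeries (shiftCoeff n (normCount N)) s = LSeries (normCount N) (s - n) := by
        rw [LSeries, term_shiftCoeff]
        rfl
      have he := exp_split (two_le_primeNorm (K := K)) (by linarith) (summable_primeNorm (K := K) hσ1) hσ2.le
      beta_reduce
      rw [hLs, ← hL, Complex.exp_neg]
      rw [heq _ hs', he]
      have hne : s - ((n + 1 : ℕ) : ℂ) ≠ 0 := fun h => by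
        have := congrArg Complex.re h
        simp only [Complex.sub_re, Complex.natCast_re, Complex.zero_re] at this
        push_cast at hs this
        linarith
      rw [show s - (n : ℂ) - 1 = s - ((n + 1 : ℕ) : ℂ) by push_cast; ring]
      field_simp
      ring

theorem hasPole_vertCoeff {p m r : ℕ} (hp : 2 ≤ p) (hm : 0 < m) : HasPole r (vertCoeff p m r) := by
  set φ : ℂ → ℂ := fun s => 1 - ((p ^ m : ℕ) : ℂ) ^ ((r : ℂ) - s)
  have hne : ((p ^ m : ℕ) : ℂ) ≠ 0 := Nat.cast_ne_zero.mpr (pow_ne_zero _ (by omega))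
  have hφ : Differentiable ℂ φ :=
    (differentiable_const _).sub (((differentiable_const _).sub differentiable_id).const_cpow (Or.inl hne))
  have hd : Differentiable ℂ (dslope φ r) := fun s =>
    ((Complex.differentiableOn_dslope (Filter.univ_mem (f := nhds (r : ℂ)))).mpr hφ.differentiableOn).differentiableAt
      Filter.univ_mem
  refine ⟨(r : ℝ) - 1, by linarith, fun _ => 1, dslope φ r, analyticOnNhd_const, fun s _ => hd.analyticAt s,
    one_ne_zero, ?_, fun s hs => ?_⟩
  · rw [dslope_same]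
    have h : HasDerivAt φ (-(((p ^ m : ℕ) : ℂ) ^ ((r : ℂ) - r) * Complex.log ((p ^ m : ℕ) : ℂ) * (-1))) r :=
      (((hasDerivAt_id (r : ℂ)).const_sub (r : ℂ)).const_cpow (Or.inl hne)).const_sub 1
    rw [h.deriv, sub_self, Complex.cpow_zero, one_mul, mul_neg_one, neg_neg, ← Complex.natCast_log]
    exact Complex.ofReal_ne_zero.mpr (Real.log_pos (by exact_mod_cast Nat.one_lt_pow hm.ne' (by omega))).ne'
  · obtain ⟨h1, h2⟩ := exp_lseries_vertCoeff hp hm hs
    refine ⟨h1, ?_⟩
    have e := sub_smul_dslope φ (r : ℂ) s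
    rw [show φ r = 0 by simp [φ], sub_zero, smul_eq_mul] at e
    rw [h2, e, one_div]

theorem le_pred_of_lt {x : WithBot ℕ∞} {n : ℕ} (h : x < ((n + 1 : ℕ) : WithBot ℕ∞)) : x ≤ (n : WithBot ℕ∞) := by
  induction x with
  | bot => exact bot_le
  | coe y =>
    induction y using ENat.recTopCoe with
    | top => simp at h
    | coe m => norm_cast at *; omega

variable {X : Scheme.{u}} (f : X ⟶ Spec (CommRingCat.of (ULift.{u} ℤ))) [LocallyOfFiniteType f] [QuasiCompact f]

include f in
/-- The coefficients of an irreducible component, in an affine piece. -/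
theorem exists_component_pole {η : X} {n : ℕ}
    (hη : topologicalKrullDim (closure ({η} : Set X)) = ((n + 1 : ℕ) : WithBot ℕ∞)) :
    ∃ V : X.Opens, η ∈ V ∧ ∃ b : ℕ → ℂ, HasPole (n + 1) b ∧
      (closure ({f.base η} : Set ↥(Spec (CommRingCat.of (ULift.{u} ℤ)))) = Set.univ → HasSimplePole (n + 1) b) ∧
      ∀ σ : ℝ, (n : ℝ) + 1 / 2 < σ →
        LSeriesSummable (setCount X ((V : Set X) ∩ closure {η}) - b) (σ : ℂ) := by
  classical
  obtain ⟨V, hV, hηV, hdim⟩ := exists_piece_dim hη
  refine ⟨V, hηV, ?_⟩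
  set p := hV.primeIdealOf ⟨η, hηV⟩ with hpdef
  have hp : hV.fromSpec p = η := hV.fromSpec_primeIdealOf ⟨η, hηV⟩
  have hI : ∀ P : PrimeSpectrum Γ(X, V), hV.fromSpec P ∈ closure ({η} : Set X) ↔ p.asIdeal ≤ P.asIdeal := fun P => by
    rw [← specializes_iff_mem_closure]
    constructor
    · intro h
      rw [← hp] at h
      exact (PrimeSpectrum.le_iff_specializes p P).mpr (hV.fromSpec.isOpenEmbedding.isInducing.specializes_iff.mp h)
    · intro h
      rw [← hp]
      exact ((PrimeSpectrum.le_iff_specializes p P).mp h).map hV.fromSpec.continuous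
  rw [setCount_affine f hV p.asIdeal hI]
  haveI := p.2
  haveI : @Algebra.FiniteType ℤ (Γ(X, V) ⧸ p.asIdeal) _ _ (Ring.toIntAlgebra _) :=
    finiteType_quotient_sections f hV p.asIdeal
  set D := Γ(X, V) ⧸ p.asIdeal
  obtain ⟨c, hc⟩ := CharP.exists D
  rcases eq_or_ne c 0 with rfl | hc0
  · haveI : CharZero D := CharP.charP_to_charZero D
    obtain ⟨K, _, _, hK⟩ := horizontal (D := D) hdim
    exact ⟨_, (hasSimplePole_shift K n).hasPole, fun _ => hasSimplePole_shift K n, hK⟩
  · haveI := hc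
    have hprime : c.Prime := (CharP.char_is_prime_or_zero D c).resolve_right hc0
    haveI := Fact.mk hprime
    obtain ⟨m, hm, hD⟩ := vertical (D := D) (p := c) (CharP.cast_eq_zero D c) hdim (by omega)
    refine ⟨_, hasPole_vertCoeff hprime.two_le hm, fun hcl => ?_, fun σ hσ => hD σ (by push_cast; linarith)⟩
    exfalso
    haveI : IsDomain (ULift.{u} ℤ) := (ULift.ringEquiv (R := ℤ)).toMulEquiv.isDomain ℤ
    let j : Spec (CommRingCat.of D) ⟶ X := Spec.map (CommRingCat.ofHom (Ideal.Quotient.mk p.asIdeal)) ≫ hV.fromSpec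
    let φ := Spec.preimage (j ≫ f)
    have hbot : f.base η = PrimeSpectrum.comap φ.hom ⟨⊥, Ideal.isPrime_bot⟩ := by
      have h1 : (Spec.map φ).base ⟨⊥, Ideal.isPrime_bot⟩ = (j ≫ f).base ⟨⊥, Ideal.isPrime_bot⟩ := by
        rw [Spec.map_preimage]
      have h2 : PrimeSpectrum.comap (Ideal.Quotient.mk p.asIdeal) (⟨⊥, Ideal.isPrime_bot⟩ : PrimeSpectrum D) = p :=
        PrimeSpectrum.ext (by
          rw [PrimeSpectrum.comap_asIdeal, ← RingHom.ker_eq_comap_bot, Ideal.mk_ker])
      have h3 : (j ≫ f).base ⟨⊥, Ideal.isPrime_bot⟩ = f.base η := by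
        rw [← hp]
        change f.base (hV.fromSpec (PrimeSpectrum.comap (Ideal.Quotient.mk p.asIdeal) _)) = _
        rw [h2]
      exact (h1.trans h3).symm
    have hzero : (c : ULift.{u} ℤ) ∈ (PrimeSpectrum.comap φ.hom ⟨⊥, Ideal.isPrime_bot⟩).asIdeal := by
      change φ.hom (c : ULift.{u} ℤ) ∈ (⊥ : Ideal D)
      rw [map_natCast, CharP.cast_eq_zero, Ideal.mem_bot]
    have hmem : (⟨⊥, Ideal.isPrime_bot⟩ : PrimeSpectrum (ULift.{u} ℤ)) ∈
        closure ({(PrimeSpectrum.comap φ.hom ⟨⊥, Ideal.isPrime_bot⟩ : PrimeSpectrum (ULift.{u} ℤ))} : Set _) := by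
      rw [← hbot]
      exact hcl.ge (Set.mem_univ _)
    have hle := (PrimeSpectrum.le_iff_specializes _ _).mpr (specializes_iff_mem_closure.mpr hmem)
    have := (show (PrimeSpectrum.comap φ.hom ⟨⊥, Ideal.isPrime_bot⟩).asIdeal ≤ (⊥ : Ideal (ULift.{u} ℤ)) from hle) hzero
    exact hc0 (by simpa using congrArg ULift.down (Ideal.mem_bot.mp this))

include f in
set_option maxHeartbeats 800000 in
/-- The zeta function is an analytic factor times finitely many factors with a simple pole at the dimension. -/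
theorem exists_decomposition {n : ℕ} (hr : topologicalKrullDim X = ((n + 1 : ℕ) : WithBot ℕ∞)) :
    ∃ (a : ℝ) (H : ℂ → ℂ) (S : Type u) (_ : Fintype S) (b : S → ℕ → ℂ), a < ((n + 1 : ℕ) : ℝ) ∧
      AnalyticOnNhd ℂ H (halfPlane a) ∧ H ((n + 1 : ℕ) : ℂ) ≠ 0 ∧ Nonempty S ∧ (∀ i, HasPole (n + 1) (b i)) ∧
      (∀ s : ℂ, ((n + 1 : ℕ) : ℝ) < s.re →
        LSeries (Zeta.arithCoeff X) s = H s * ∏ i, Complex.exp (LSeries (b i) s)) ∧
      (IrreducibleSpace X → (∃ x : X, closure ({f.base x} : Set ↥(Spec (CommRingCat.of (ULift.{u} ℤ)))) = Set.univ) →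
        Subsingleton S ∧ ∀ i, HasSimplePole (n + 1) (b i)) := by
  classical
  haveI : IsNoetherianRing (ULift.{u} ℤ) := isNoetherianRing_of_ringEquiv ℤ (ULift.ringEquiv (R := ℤ)).symm
  haveI : CompactSpace X := QuasiCompact.compactSpace_of_compactSpace f
  haveI : IsLocallyNoetherian X := LocallyOfFiniteType.isLocallyNoetherian f
  haveI : IsNoetherian X := {}
  let S : Set (Set X) := {Z | Z ∈ irreducibleComponents X ∧ topologicalKrullDim Z = ((n + 1 : ℕ) : WithBot ℕ∞)}
  have hfinC : (irreducibleComponents X).Finite := TopologicalSpace.NoetherianSpace.finite_irreducibleComponents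
  haveI : Finite S := (hfinC.subset fun Z hZ => hZ.1).to_subtype
  haveI : Fintype S := Fintype.ofFinite _
  have hex : ∀ Z : S, ∃ (η : X) (U : X.Opens), η ∈ U ∧ closure ({η} : Set X) = Z.1 ∧
      ∀ Y ∈ irreducibleComponents X, ∀ x ∈ U, x ∈ Y → Y = Z.1 := fun Z => by
    obtain ⟨η, hη⟩ := QuasiSober.sober Z.2.1.1 (isClosed_of_mem_irreducibleComponents Z.1 Z.2.1)
    have hO : IsClosed (⋃₀ (irreducibleComponents X \ {Z.1})) :=
      Set.Finite.isClosed_biUnion (hfinC.subset Set.sdiff_subset)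
        (fun Y hY => isClosed_of_mem_irreducibleComponents Y hY.1) |> fun h => by rwa [Set.sUnion_eq_biUnion]
    have hmem : η ∈ (⋃₀ (irreducibleComponents X \ {Z.1}))ᶜ := by
      rintro ⟨Y, ⟨hY, hne⟩, hηY⟩
      refine hne (le_antisymm ?_ ?_)
      · refine Z.2.1.2 hY.1 ?_
        rw [← hη.def]
        exact closure_minimal (Set.singleton_subset_iff.mpr hηY) (isClosed_of_mem_irreducibleComponents Y hY)
      · rw [← hη.def]
        exact closure_minimal (Set.singleton_subset_iff.mpr hηY) (isClosed_of_mem_irreducibleComponents Y hY)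
    refine ⟨η, ⟨_, hO.isOpen_compl⟩, hmem, hη.def, fun Y hY x hx hxY => ?_⟩
    by_contra hne
    exact hx ⟨Y, ⟨hY, hne⟩, hxY⟩
  choose η U hηU hηZ honly using hex
  choose V hηV b hpole hsimple hcmp using fun Z : S => exists_component_pole f (η := η Z) (n := n)
    ((congrArg (fun T : Set X => topologicalKrullDim T) (hηZ Z)).trans Z.2.2)
  -- the small part
  let W : Set X := (⋃ Z : S, ((U Z : Set X) ∩ V Z))ᶜ
  have hW : IsClosed W := (isOpen_iUnion fun Z => (U Z).2.inter (V Z).2).isClosed_compl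
  have hWdim : topologicalKrullDim W ≤ (n : WithBot ℕ∞) := by
    refine le_pred_of_lt ?_
    by_contra hlt
    obtain ⟨l, hl⟩ := Order.le_krullDim_iff.mp (not_lt.mp hlt)
    let p : LTSeries (TopologicalSpace.IrreducibleCloseds X) :=
      l.map _ (TopologicalSpace.IrreducibleCloseds.map_strictMono_of_isInducing hW.isClosedEmbedding_subtypeVal.isInducing)
    have hpW : (p.last : Set X) ⊆ W := by
      simp only [p, LTSeries.last_map, TopologicalSpace.IrreducibleCloseds.coe_map]
      exact closure_minimal (Set.image_subset_iff.mpr fun x _ => x.2) hW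
    obtain ⟨Y, hY, hle⟩ := exists_mem_irreducibleComponents_subset_of_isIrreducible _ p.last.isIrreducible
    let Y' : TopologicalSpace.IrreducibleCloseds X := ⟨Y, hY.1, isClosed_of_mem_irreducibleComponents Y hY⟩
    rcases (show p.last ≤ Y' from hle).eq_or_lt with heq | hlt'
    · have hYW : Y ⊆ W := by
        rw [show Y = (p.last : Set X) from (congrArg (fun T : TopologicalSpace.IrreducibleCloseds X => (T : Set X)) heq).symm]
        exact hpW
      have hYr : topologicalKrullDim Y = ((n + 1 : ℕ) : WithBot ℕ∞) := by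
        refine le_antisymm ((topologicalKrullDim_subspace_le X Y).trans hr.le) ?_
        have h1 := Groth.L06.Dim.length_le_of_last_subset p hle
        rwa [show p.length = l.length from rfl, hl] at h1
      let Z : S := ⟨Y, hY, hYr⟩
      exact hYW ((hηZ Z).le (subset_closure rfl)) (Set.mem_iUnion.mpr ⟨Z, hηU Z, hηV Z⟩)
    · have h1 := Order.LTSeries.length_le_krullDim (p.snoc Y' hlt')
      rw [RelSeries.snoc_length, show p.length = l.length from rfl, hl] at h1
      have h2 := h1.trans hr.le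
      norm_cast at h2
      omega
  have hne : Nonempty S := by
    obtain ⟨l, hl⟩ := Order.le_krullDim_iff.mp
      (le_of_eq hr.symm : ((n + 1 : ℕ) : WithBot ℕ∞) ≤ topologicalKrullDim X)
    obtain ⟨Y, hY, hle⟩ := exists_mem_irreducibleComponents_subset_of_isIrreducible _ l.last.isIrreducible
    refine ⟨⟨Y, hY, le_antisymm ((topologicalKrullDim_subspace_le X Y).trans hr.le) ?_⟩⟩
    have h1 := Groth.L06.Dim.length_le_of_last_subset l hle
    rwa [hl] at h1
  set N := ptNorm X
  set err : ℕ → ℂ := normCount N - ∑ Z, b Z with herrdef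
  set A : S → Set X := fun Z => (V Z : Set X) ∩ closure {η Z}
  have hdiff : ∀ m, ‖(normCount N - ∑ Z, setCount X (A Z)) m‖ ≤ (Fintype.card S + 1 : ℝ) * ‖setCount X W m‖ := fun m => by
    haveI := finite_setCount f hr.le m
    haveI := Fintype.ofFinite {x : ClPt X // ptNorm X x = m}
    set P := {x : ClPt X // ptNorm X x = m}
    have hcard : ∀ T : Set X, Nat.card {x : ClPt X // x.1 ∈ T ∧ ptNorm X x = m} =
        ∑ x : P, T.indicator (fun _ => (1 : ℕ)) x.1.1 := fun T => by
      simp only [Set.indicator_apply, Finset.sum_boole]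
      rw [← Fintype.card_subtype, Nat.cast_id, ← Nat.card_eq_fintype_card]
      exact Nat.card_congr
        { toFun := fun x => ⟨⟨x.1, x.2.2⟩, x.2.1⟩
          invFun := fun x => ⟨x.1.1, x.2, x.1.2⟩
          left_inv := fun _ => rfl
          right_inv := fun _ => rfl }
    have hset : ∀ T : Set X, setCount X T m = ∑ x : P, ((T.indicator (fun _ => (1 : ℕ)) x.1.1 : ℕ) : ℂ) := fun T => by
      rw [setCount, hcard, Nat.cast_sum]
    have hW' : ‖setCount X W m‖ = ∑ x : P, ((W.indicator (fun _ => (1 : ℕ)) x.1.1 : ℕ) : ℝ) := by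
      rw [setCount, Complex.norm_natCast, hcard, Nat.cast_sum]
    have hall : normCount N m = ∑ _x : P, (1 : ℂ) := by
      rw [Finset.sum_const, nsmul_eq_mul, mul_one, Finset.card_univ, ← Nat.card_eq_fintype_card]
      rfl
    have hone : ∀ x : P, x.1.1 ∉ W → (∑ Z, (((A Z).indicator (fun _ => (1 : ℕ)) x.1.1 : ℕ) : ℂ)) = 1 := fun x hx => by
      obtain ⟨Z₀, hxU, hxV⟩ := Set.mem_iUnion.mp (not_not.mp hx)
      rw [Finset.sum_eq_single Z₀ (fun Z _ hne => by
        rw [Set.indicator_of_notMem fun hA => hne (Subtype.ext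
          (honly Z₀ Z.1 Z.2.1 _ hxU ((hηZ Z).le hA.2))), Nat.cast_zero]) (fun h => absurd (Finset.mem_univ _) h),
        Set.indicator_of_mem, Nat.cast_one]
      refine ⟨hxV, ?_⟩
      rw [hηZ Z₀]
      have hC : irreducibleComponent x.1.1 ∈ irreducibleComponents X := irreducibleComponent_mem_irreducibleComponents x.1.1
      exact honly Z₀ _ hC _ hxU mem_irreducibleComponent ▸ mem_irreducibleComponent
    rw [Pi.sub_apply, Finset.sum_apply, hall, Finset.sum_congr rfl (fun Z _ => hset (A Z)), Finset.sum_comm,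
      ← Finset.sum_sub_distrib, hW']
    refine (norm_sum_le _ _).trans ?_
    rw [Finset.mul_sum]
    refine Finset.sum_le_sum fun x _ => ?_
    by_cases hx : x.1.1 ∈ W
    · rw [Set.indicator_of_mem hx, Nat.cast_one, mul_one]
      refine (norm_sub_le _ _).trans ?_
      rw [norm_one, add_comm]
      refine add_le_add_left ((norm_sum_le _ _).trans ((Finset.sum_le_card_nsmul _ _ (1 : ℝ) fun Z _ => ?_).trans_eq
        (by rw [Finset.card_univ, nsmul_eq_mul, mul_one]))) _
      rw [Complex.norm_natCast, Nat.cast_le_one]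
      exact Set.indicator_le_self' (fun _ _ => Nat.zero_le _) _
    · rw [hone x hx, sub_self, norm_zero, Set.indicator_of_notMem hx, Nat.cast_zero, mul_zero]
  have herr : ∀ σ : ℝ, (n : ℝ) + 1 / 2 < σ → LSeriesSummable err (σ : ℂ) := fun σ hσ => by
    have h1 : LSeriesSummable (normCount N - ∑ Z, setCount X (A Z)) (σ : ℂ) := by
      refine Summable.of_norm (Summable.of_nonneg_of_le (fun _ => norm_nonneg _) (fun m => ?_)
        ((summable_setCount_small f hW hWdim hr.le hσ).norm.mul_left (Fintype.card S + 1 : ℝ)))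
      rcases eq_or_ne m 0 with rfl | hm
      · simp [LSeries.term_zero]
      · rw [LSeries.term_of_ne_zero hm, LSeries.term_of_ne_zero hm, norm_div, norm_div, mul_div_assoc']
        exact div_le_div_of_nonneg_right (hdiff m) (norm_nonneg _)
    have h2 : LSeriesSummable (∑ Z, (setCount X (A Z) - b Z)) (σ : ℂ) := LSeriesSummable.sum fun Z _ => hcmp Z σ hσ
    have := h1.add h2
    rwa [Finset.sum_sub_distrib, sub_add_sub_cancel] at this
  have hN2 : ∀ x, 2 ≤ N x := two_le_ptNorm f
  have hrem : AnalyticOnNhd ℂ (logRem N) (halfPlane ((n : ℝ) + 1 / 2)) :=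
    analyticOnNhd_logRem hN2 (by positivity) fun σ hσ => summable_ptNorm f hr.le
      (by push_cast; linarith [(Nat.cast_nonneg n : (0 : ℝ) ≤ n)])
  refine ⟨(n : ℝ) + 1 / 2, fun s => Complex.exp (LSeries err s + logRem N s), S, inferInstance, b,
    by push_cast; linarith, fun s hs => ((analyticOnNhd_lseries herr s hs).add (hrem s hs)).cexp,
    Complex.exp_ne_zero _, hne, hpole, fun s hs => ?_, fun hirr hdom => ?_⟩
  · obtain ⟨σ, h1, h2⟩ := exists_between hs
    have hsum := summable_ptNorm f hr.le h1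
    have hσ0 : 0 < σ := lt_of_le_of_lt (Nat.cast_nonneg _) h1
    have hg : ∀ m, Zeta.arithCoeff X m = (Groth.L11.Zeta.count N m : ℂ) := fun m => by
      rw [Zeta.arithCoeff, Groth.L11.Zeta.cycleNormCount_eq]
    rw [(Groth.L11.Zeta.lseries_eq_tsum hN2 hσ0 hsum h2.le _ hg).2, exp_split hN2 hσ0 hsum h2.le]
    obtain ⟨hc, hceq⟩ := tsum_cweight_eq_lseries hN2 hsum h2.le
    have hbsum : ∀ Z, LSeriesSummable (b Z) s := fun Z => by
      obtain ⟨a, -, h, e, -, -, -, -, hh⟩ := hpole Z
      exact (hh s hs).1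
    rw [hceq, lseries_eq_add hc (LSeriesSummable.sum fun Z _ => hbsum Z), LSeries_sum fun Z _ => hbsum Z,
      ← herrdef]
    simp only [Complex.exp_add, Complex.exp_sum]
    ring
  · have huniv : ∀ Z : S, Z.1 = Set.univ := fun Z =>
      Set.eq_univ_of_univ_subset (Z.2.1.2 ⟨Z.2.1.1.1.mono (Set.subset_univ _),
        hirr.toPreirreducibleSpace.isPreirreducible_univ⟩ (Set.subset_univ _))
    refine ⟨⟨fun Z Z' => Subtype.ext ((huniv Z).trans (huniv Z').symm)⟩, fun Z => hsimple Z ?_⟩
    obtain ⟨x, hx⟩ := hdom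
    have hsp : η Z ⤳ x := specializes_iff_mem_closure.mpr (((hηZ Z).trans (huniv Z)).ge (Set.mem_univ _))
    refine Set.eq_univ_of_univ_subset (hx ▸ closure_minimal (Set.singleton_subset_iff.mpr ?_) isClosed_closure)
    exact specializes_iff_mem_closure.mp (hsp.map f.continuous)

end Groth.L03.ZetaCont
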