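import Groth.Agent.L03.ZetaCont.Ring
import Groth.Agent.L11.Zeta.Lower
import Groth.Agent.L22.SchemeDim
import Groth.Agent.L06.Dim

/-!
Closed points of an arithmetic scheme inside affine pieces.
-/

set_option autoImplicit false
universe u

open AlgebraicGeometry CategoryTheory
open Groth.L11.Zeta (ptNorm nm exists_card_hom_le finiteType_sections two_le_ptNorm finite_nm_eq)

namespace Groth.L03.ZetaCont

/-- A ring of small dimension contributes only to the left. -/
theorem summable_small {B : Type u} [CommRing B] [Algebra.FiniteType ℤ B] {n : ℕ} (hdim : ringKrullDim B ≤ n)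
    {σ : ℝ} (hσ : (n : ℝ) + 1 / 2 < σ) : LSeriesSummable (normCount (nm B)) (σ : ℂ) := by
  classical
  obtain ⟨c, p₀, hc⟩ := exists_card_hom_le.{u, u} hdim
  refine summable_of_bound (C := (c : ℝ) + c * Real.sqrt p₀) (t₁ := (n : ℝ) - 1 / 2) (t₂ := n) (by linarith)
    (by linarith) fun q hq => ?_
  have hq0 : (0 : ℝ) < q := by exact_mod_cast Nat.pos_of_ne_zero hq
  have hC : (0 : ℝ) ≤ (c : ℝ) + c * Real.sqrt p₀ := by positivity
  have hi : 0 ≤ higherPow.indicator (fun m : ℕ => ((c : ℝ) + c * Real.sqrt p₀) * (m : ℝ) ^ (n : ℝ)) q :=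
    Set.indicator_nonneg (fun _ _ => by positivity) _
  simp only [normCount, Complex.norm_natCast]
  rcases isEmpty_or_nonempty {M : MaxId B // nm B M = q} with h | ⟨⟨M⟩⟩
  · rw [Nat.card_of_isEmpty, Nat.cast_zero]
    exact add_nonneg (by positivity) hi
  haveI := M.1.2
  haveI : Finite (B ⧸ M.1.1) := Groth.L11.Zeta.finite_quotient M.1
  letI := Ideal.Quotient.field M.1.1
  obtain ⟨p, hp⟩ := CharP.exists (B ⧸ M.1.1)
  haveI := hp
  haveI := Fintype.ofFinite (B ⧸ M.1.1)
  obtain ⟨e, hprime, hcard⟩ := FiniteField.card (B ⧸ M.1.1) p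
  have hF : Nat.card (B ⧸ M.1.1) = q := M.2
  have hle := card_max_le_card_hom (D := B) (F := B ⧸ M.1.1)
  rw [hF] at hle
  obtain ⟨-, h1, h2⟩ := hc p hprime (B ⧸ M.1.1)
  rw [hF] at h1 h2
  have hb1 : (Nat.card {M : MaxId B // nm B M = q} : ℝ) ≤ c * (q : ℝ) ^ n := by exact_mod_cast hle.trans h1
  have hq' : q = p ^ (e : ℕ) := by rw [← hF, Nat.card_eq_fintype_card, hcard]
  by_cases he : (e : ℕ) = 1
  swap
  · refine le_trans ?_ (le_add_of_nonneg_left (by positivity))
    rw [Set.indicator_of_mem (show q ∈ higherPow from ⟨(⟨p, hprime⟩, (e : ℕ) - 2), by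
      simp only; rw [hq']; congr 1; have := e.pos; omega⟩), Real.rpow_natCast]
    refine hb1.trans (mul_le_mul_of_nonneg_right ?_ (by positivity))
    linarith [mul_nonneg (Nat.cast_nonneg c : (0 : ℝ) ≤ c) (Real.sqrt_nonneg p₀)]
  rw [he, pow_one] at hq'
  subst hq'
  refine le_trans ?_ (le_add_of_nonneg_right hi)
  rw [Real.rpow_sub hq0, Real.rpow_natCast, ← Real.sqrt_eq_rpow, mul_div_assoc',
    le_div_iff₀ (Real.sqrt_pos.mpr hq0)]
  have hqn : (0 : ℝ) ≤ (q : ℝ) ^ n := by positivity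
  by_cases hlt : p₀ ≤ q
  · have h3 : (Nat.card {M : MaxId B // nm B M = q} : ℝ) * q ≤ c * (q : ℝ) ^ n := by
      exact_mod_cast (Nat.mul_le_mul_right _ hle).trans (h2 hlt)
    refine le_trans (mul_le_mul_of_nonneg_left (Real.sqrt_le_iff.mpr ⟨hq0.le, ?_⟩) (Nat.cast_nonneg _))
      (h3.trans (mul_le_mul_of_nonneg_right (le_add_of_nonneg_right (by positivity)) hqn))
    exact le_self_pow₀ (by exact_mod_cast hprime.one_le) two_ne_zero
  · refine (mul_le_mul hb1 (Real.sqrt_le_sqrt (y := (p₀ : ℝ)) (by exact_mod_cast (not_le.mp hlt).le))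
      (Real.sqrt_nonneg _) (by positivity)).trans ?_
    have := mul_nonneg (Nat.cast_nonneg c : (0 : ℝ) ≤ c) hqn
    nlinarith

/-- The closed points. -/
abbrev ClPt (X : Scheme.{u}) : Type u := Groth.L11.Zeta.Closed X

variable {X : Scheme.{u}}

/-- The indicator count of closed points in a set. -/
noncomputable def setCount (X : Scheme.{u}) (Z : Set X) (n : ℕ) : ℂ :=
  (Nat.card {x : ClPt X // x.1 ∈ Z ∧ ptNorm X x = n} : ℂ)

theorem natCard_residueField_fromSpec {V : X.Opens} (hV : IsAffineOpen V) (x : ↥(Spec Γ(X, V))) :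
    Nat.card (X.residueField (hV.fromSpec x)) = Nat.card (@Ideal.ResidueField _ _ x.asIdeal x.2) :=
  Nat.card_congr (asIso (hV.fromSpec.residueFieldMap x) ≪≫
      Scheme.Spec.residueFieldIso _ x).commRingCatIsoToRingEquiv.toEquiv

variable (f : X ⟶ Spec (CommRingCat.of (ULift.{u} ℤ))) [LocallyOfFiniteType f]

include f in
/-- Closed points in an affine piece of a closed set. -/
theorem setCount_affine {V : X.Opens} (hV : IsAffineOpen V) {Z : Set X} (I : Ideal Γ(X, V))
    (hI : ∀ P : PrimeSpectrum Γ(X, V), hV.fromSpec P ∈ Z ↔ I ≤ P.asIdeal) :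
    setCount X ((V : Set X) ∩ Z) = normCount (nm (Γ(X, V) ⧸ I)) := by
  classical
  haveI : IsJacobsonRing (ULift.{u} ℤ) := Groth.L11.Zeta.isJacobsonRing_ulift
  haveI : JacobsonSpace X := LocallyOfFiniteType.jacobsonSpace f
  funext n
  unfold setCount normCount
  congr 1
  let P : MaxId (Γ(X, V) ⧸ I) → PrimeSpectrum Γ(X, V) := fun M =>
    ⟨M.1.comap (Ideal.Quotient.mk I), (M.2.isPrime).comap _⟩
  have hPmax : ∀ M, (P M).asIdeal.IsMaximal := fun M =>
    haveI := M.2; Ideal.comap_isMaximal_of_surjective _ Ideal.Quotient.mk_surjective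
  have hclosed : ∀ M, IsClosed ({hV.fromSpec (P M)} : Set X) := fun M => by
    have h : (P M) ∈ closedPoints (Spec Γ(X, V)) :=
      (PrimeSpectrum.isClosed_singleton_iff_isMaximal _).mpr (hPmax M)
    rw [← hV.fromSpec.isOpenEmbedding.preimage_closedPoints] at h
    exact h
  have hnorm : ∀ M, ptNorm X ⟨hV.fromSpec (P M), hclosed M⟩ = nm (Γ(X, V) ⧸ I) M := fun M => by
    haveI := hPmax M
    change Nat.card (X.residueField (hV.fromSpec (P M))) = Nat.card ((Γ(X, V) ⧸ I) ⧸ M.1)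
    haveI := hPmax M
    refine ((natCard_residueField_fromSpec hV (P M)).trans
      (Nat.card_congr (Equiv.ofBijective _ (P M).asIdeal.bijective_algebraMap_quotient_residueField)).symm).trans ?_
    exact Nat.card_congr (Equiv.ofBijective (Ideal.quotientMap M.1 (Ideal.Quotient.mk I) le_rfl)
      ⟨Ideal.quotientMap_injective, Ideal.quotientMap_surjective Ideal.Quotient.mk_surjective⟩)
  have hIP : ∀ M, I ≤ (P M).asIdeal := fun M x hx => by
    change Ideal.Quotient.mk I x ∈ M.1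
    rw [Ideal.Quotient.eq_zero_iff_mem.mpr hx]
    exact M.1.zero_mem
  symm
  refine Nat.card_eq_of_bijective (fun M : {M : MaxId (Γ(X, V) ⧸ I) // nm (Γ(X, V) ⧸ I) M = n} =>
    (⟨⟨hV.fromSpec (P M.1), hclosed M.1⟩, ⟨hV.range_fromSpec.le ⟨_, rfl⟩, (hI _).mpr (hIP M.1)⟩,
      (hnorm M.1).trans M.2⟩ : {x : ClPt X // x.1 ∈ (V : Set X) ∩ Z ∧ ptNorm X x = n}))
    ⟨fun M M' h => ?_, fun x => ?_⟩
  · have h1 := hV.fromSpec.isOpenEmbedding.injective (congrArg (fun x => x.1.1) h)
    exact Subtype.ext (Subtype.ext (Ideal.comap_injective_of_surjective _ Ideal.Quotient.mk_surjective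
      (congrArg PrimeSpectrum.asIdeal h1)))
  · obtain ⟨Q, hQ⟩ := hV.range_fromSpec.ge x.2.1.1
    have hQmax : Q.asIdeal.IsMaximal := by
      refine (PrimeSpectrum.isClosed_singleton_iff_isMaximal _).mp ?_
      have : Q ∈ hV.fromSpec ⁻¹' closedPoints X := by
        change IsClosed ({hV.fromSpec Q} : Set X)
        rw [hQ]; exact x.1.2
      rwa [hV.fromSpec.isOpenEmbedding.preimage_closedPoints] at this
    have hle : I ≤ Q.asIdeal := (hI Q).mp (by rw [hQ]; exact x.2.1.2)
    haveI := hQmax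
    let M : MaxId (Γ(X, V) ⧸ I) := ⟨Q.asIdeal.map (Ideal.Quotient.mk I),
      (Ideal.map_eq_top_or_isMaximal_of_surjective _ Ideal.Quotient.mk_surjective hQmax).resolve_left fun h => by
        have := congrArg (Ideal.comap (Ideal.Quotient.mk I)) h
        rw [Ideal.comap_map_of_surjective _ Ideal.Quotient.mk_surjective, Ideal.comap_top, ← RingHom.ker_eq_comap_bot,
          Ideal.mk_ker, sup_eq_left.mpr hle] at this
        exact hQmax.ne_top this⟩
    have hPM : P M = Q := PrimeSpectrum.ext (by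
      change (Q.asIdeal.map _).comap _ = _
      rw [Ideal.comap_map_of_surjective _ Ideal.Quotient.mk_surjective, ← RingHom.ker_eq_comap_bot,
        Ideal.mk_ker, sup_eq_left.mpr hle])
    have hx : (⟨hV.fromSpec (P M), hclosed M⟩ : ClPt X) = x.1 := Subtype.ext (by
      change hV.fromSpec (P M) = x.1.1
      rw [hPM, hQ])
    refine ⟨⟨M, ?_⟩, Subtype.ext hx⟩
    rw [← hnorm M, hx]
    exact x.2.2

include f in
theorem finiteType_quotient_sections {V : X.Opens} (hV : IsAffineOpen V) (I : Ideal Γ(X, V)) :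
    @Algebra.FiniteType ℤ (Γ(X, V) ⧸ I) _ _ (Ring.toIntAlgebra _) :=
  haveI := finiteType_sections f hV
  finiteType_quotient I

variable [QuasiCompact f]

include f in
theorem finite_setCount {r : ℕ} (hr : topologicalKrullDim X ≤ r) (n : ℕ) :
    Finite {x : ClPt X // ptNorm X x = n} :=
  finite_normCount (two_le_ptNorm f) (Groth.L11.Zeta.summable_ptNorm f hr (lt_add_one (r : ℝ))) n

include f in
/-- A small closed subset contributes only to the left. -/
theorem summable_setCount_small {W : Set X} (hW : IsClosed W) {n : ℕ} (hdim : topologicalKrullDim W ≤ n) {r : ℕ}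
    (hr : topologicalKrullDim X ≤ r) {σ : ℝ} (hσ : (n : ℝ) + 1 / 2 < σ) : LSeriesSummable (setCount X W) (σ : ℂ) := by
  classical
  haveI : CompactSpace X := QuasiCompact.compactSpace_of_compactSpace f
  obtain ⟨s, hs⟩ := isCompact_univ.elim_finite_subcover (fun U : X.affineOpens => ((U : X.Opens) : Set X))
    (fun U => U.1.2) (fun x _ => by
      obtain ⟨_, ⟨U, hU, rfl⟩, hxU, -⟩ :=
        X.isBasis_affineOpens.exists_subset_of_mem_open (Set.mem_univ x) isOpen_univ
      exact Set.mem_iUnion.mpr ⟨⟨U, hU⟩, hxU⟩)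
  have hV : ∀ V : X.affineOpens, LSeriesSummable (setCount X ((V.1 : Set X) ∩ W)) (σ : ℂ) := fun V => by
    have hVa : IsAffineOpen (V.1 : X.Opens) := V.2
    let Z : Set (PrimeSpectrum Γ(X, V.1)) := hVa.fromSpec ⁻¹' W
    let I := PrimeSpectrum.vanishingIdeal Z
    have hZ : IsClosed Z := hW.preimage hVa.fromSpec.continuous
    have hI : PrimeSpectrum.zeroLocus (I : Set Γ(X, V.1)) = Z := by
      rw [PrimeSpectrum.zeroLocus_vanishingIdeal_eq_closure, hZ.closure_eq]
    have hI' : ∀ P : PrimeSpectrum Γ(X, V.1), hVa.fromSpec P ∈ W ↔ I ≤ P.asIdeal := fun P => by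
      change P ∈ Z ↔ _
      rw [← hI, PrimeSpectrum.mem_zeroLocus]
      rfl
    rw [setCount_affine f hVa I hI']
    haveI := finiteType_quotient_sections f hVa I
    refine summable_small ?_ hσ
    rw [← PrimeSpectrum.topologicalKrullDim_eq_ringKrullDim]
    refine le_trans ?_ hdim
    have hemb := PrimeSpectrum.isClosedEmbedding_comap_of_surjective (R := Γ(X, V.1)) (Γ(X, V.1) ⧸ I)
      (Ideal.Quotient.mk I) Ideal.Quotient.mk_surjective
    let j : PrimeSpectrum (Γ(X, V.1) ⧸ I) → W := fun z => ⟨hVa.fromSpec (PrimeSpectrum.comap (Ideal.Quotient.mk I) z),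
      (hI' _).mpr fun x hx => by
        change Ideal.Quotient.mk I x ∈ z.asIdeal
        rw [Ideal.Quotient.eq_zero_iff_mem.mpr hx]
        exact z.asIdeal.zero_mem⟩
    have hj : Topology.IsInducing j :=
      (hVa.fromSpec.isOpenEmbedding.isInducing.comp hemb.isEmbedding.isInducing).codRestrict _
    exact hj.topologicalKrullDim_le
  refine Summable.of_norm (Summable.of_nonneg_of_le (fun _ => norm_nonneg _) (fun m => ?_)
    (summable_sum (s := s) fun V _ => (hV V).norm))
  rcases eq_or_ne m 0 with rfl | hm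
  · simp [LSeries.term_zero]
  simp only [LSeries.term_of_ne_zero hm, norm_div, setCount, Complex.norm_natCast, ← Finset.sum_div]
  refine div_le_div_of_nonneg_right ?_ (norm_nonneg _)
  haveI := finite_setCount f hr m
  haveI : ∀ S : Set X, Finite {x : ClPt X // x.1 ∈ S ∧ ptNorm X x = m} := fun S =>
    Finite.of_injective (fun x => (⟨x.1, x.2.2⟩ : {x : ClPt X // ptNorm X x = m}))
      fun a b h => Subtype.ext (congrArg (fun z => z.1) h)
  rw [← Nat.cast_sum, Nat.cast_le]
  refine le_trans (Nat.card_le_card_of_surjective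
    (fun z : Σ V : s, {x : ClPt X // x.1 ∈ (V.1.1 : Set X) ∩ W ∧ ptNorm X x = m} =>
      (⟨z.2.1, z.2.2.1.2, z.2.2.2⟩ : {x : ClPt X // x.1 ∈ W ∧ ptNorm X x = m})) fun x => ?_) (le_of_eq ?_)
  · obtain ⟨V, hV, hxV⟩ := Set.mem_iUnion₂.mp (hs (Set.mem_univ x.1.1))
    exact ⟨⟨⟨V, hV⟩, x.1, ⟨hxV, x.2.1⟩, x.2.2⟩, rfl⟩
  · rw [Nat.card_sigma, Finset.univ_eq_attach,
      Finset.sum_attach s fun V => Nat.card {x : ClPt X // x.1 ∈ (V.1 : Set X) ∩ W ∧ ptNorm X x = m}]

omit [LocallyOfFiniteType f] [QuasiCompact f] in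
/-- An affine piece of an irreducible component keeps the dimension. -/
theorem exists_piece_dim {η : X} {r : ℕ} (hr : topologicalKrullDim (closure ({η} : Set X)) = r) :
    ∃ (V : X.Opens) (hV : IsAffineOpen V) (hη : η ∈ V),
      ringKrullDim (Γ(X, V) ⧸ (hV.primeIdealOf ⟨η, hη⟩).asIdeal) = (r : WithBot ℕ∞) := by
  obtain ⟨l, hl⟩ := Order.le_krullDim_iff.mp
    (le_of_eq hr.symm : ((r : ℕ) : WithBot ℕ∞) ≤ topologicalKrullDim (closure ({η} : Set X)))
  obtain ⟨x, hx⟩ := l.head.isIrreducible.nonempty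
  obtain ⟨_, ⟨V, hV, rfl⟩, hxV, -⟩ :=
    X.isBasis_affineOpens.exists_subset_of_mem_open (Set.mem_univ x.1) isOpen_univ
  have hη : η ∈ V := by
    have hsp : η ⤳ x.1 := specializes_iff_mem_closure.mpr x.2
    exact hsp.mem_open V.2 hxV
  refine ⟨V, hV, hη, ?_⟩
  rw [← Groth.L22.SchemeDim.topologicalKrullDim_closure_inter hV hη]
  refine le_antisymm ((Groth.L22.SchemeDim.topologicalKrullDim_mono Set.inter_subset_left).trans hr.le) ?_
  let U : Set (closure ({η} : Set X)) := Subtype.val ⁻¹' (V : Set X)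
  have hU : IsOpen U := V.2.preimage continuous_subtype_val
  have h1 := Groth.L06.Dim.length_le_of_head_inter l hU ⟨x, hx, hxV⟩
  rw [hl] at h1
  refine h1.trans (le_of_eq ?_)
  symm
  refine Groth.L22.SchemeDim.topologicalKrullDim_eq_of_isEmbedding
    (f := fun y : U => (y.1.1 : X)) (Topology.IsEmbedding.subtypeVal.comp Topology.IsEmbedding.subtypeVal) ?_
  ext y
  exact ⟨fun ⟨z, hz⟩ => hz ▸ ⟨z.1.2, z.2⟩, fun hy => ⟨⟨⟨y, hy.1⟩, hy.2⟩, rfl⟩⟩

end Groth.L03.ZetaCont
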