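import Groth.Agent.L03.ZetaCont.Coeff
import Groth.Agent.L11.Zeta.Dense
import Mathlib.RingTheory.KrullDimension.NonZeroDivisors
import Mathlib.RingTheory.DedekindDomain.Dvr
import Mathlib.NumberTheory.NumberField.Basic

/-!
Maximal ideals and homomorphisms to finite fields.
-/

set_option autoImplicit false
universe u v

namespace Groth.L03.ZetaCont

open Groth.L11.Zeta (nm finite_quotient two_le_nm finite_hom finite_nm_eq exists_card_hom_le)

/-- The maximal ideals. -/
abbrev MaxId (A : Type u) [CommRing A] : Type u := Groth.L11.Zeta.Max A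

variable {D : Type u} [CommRing D] [Algebra.FiniteType ℤ D]

theorem exists_hom_of_nm_eq {F : Type v} [Field F] [Finite F] (m : MaxId D) (h : nm D m = Nat.card F) :
    ∃ φ : D →+* F, RingHom.ker φ = m.1 := by
  haveI := finite_quotient m
  haveI := m.2
  letI := Ideal.Quotient.field m.1
  haveI := Fintype.ofFinite (D ⧸ m.1)
  haveI := Fintype.ofFinite F
  have hc : Fintype.card (D ⧸ m.1) = Fintype.card F := by
    rw [← Nat.card_eq_fintype_card, ← Nat.card_eq_fintype_card]
    exact h
  refine ⟨(FiniteField.ringEquivOfCardEq hc).toRingHom.comp (Ideal.Quotient.mk m.1), ?_⟩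
  ext a
  simp [RingHom.mem_ker, Ideal.Quotient.eq_zero_iff_mem]

theorem card_max_le_card_hom {F : Type v} [Field F] [Finite F] :
    Nat.card {m : MaxId D // nm D m = Nat.card F} ≤ Nat.card (D →+* F) := by
  haveI := finite_hom (A := D) F
  choose φ hφ using fun m : {m : MaxId D // nm D m = Nat.card F} => exists_hom_of_nm_eq m.1 m.2
  exact Nat.card_le_card_of_injective φ fun m m' h => Subtype.ext (Subtype.ext (by rw [← hφ m, ← hφ m', h]))

/-- Over a prime field, maximal ideals with residue field the prime field are the homomorphisms. -/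
theorem card_max_eq_card_hom {p : ℕ} [Fact p.Prime] {F : Type v} [Field F] [Finite F] [CharP F p]
    (hF : Nat.card F = p) : Nat.card {m : MaxId D // nm D m = p} = Nat.card (D →+* F) := by
  have hint : ∀ x : F, ∃ z : ℤ, (z : F) = x := fun x => by
    haveI := Fintype.ofFinite F
    have hb : Function.Bijective (ZMod.castHom (dvd_refl p) F) := by
      rw [Fintype.bijective_iff_injective_and_card]
      exact ⟨(ZMod.castHom (dvd_refl p) F).injective, by
        rw [ZMod.card, ← Nat.card_eq_fintype_card, hF]⟩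
    obtain ⟨w, rfl⟩ := hb.2 x
    obtain ⟨z, rfl⟩ := ZMod.intCast_surjective w
    exact ⟨z, (map_intCast _ z).symm⟩
  have hsurj : ∀ φ : D →+* F, Function.Surjective φ := fun φ x => by
    obtain ⟨z, rfl⟩ := hint x
    exact ⟨z, map_intCast φ z⟩
  symm
  refine Nat.card_eq_of_bijective (fun φ : D →+* F => (⟨⟨RingHom.ker φ,
    RingHom.ker_isMaximal_of_surjective φ (hsurj φ)⟩,
      (Nat.card_congr (RingHom.quotientKerEquivOfSurjective (hsurj φ)).toEquiv).trans hF⟩ :
        {m : MaxId D // nm D m = p})) ⟨fun φ ψ h => RingHom.ext fun a => ?_, fun m => ?_⟩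
  · have hk : RingHom.ker φ = RingHom.ker ψ := congrArg (fun m => m.1.1) h
    obtain ⟨z, hz⟩ := hint (φ a)
    have : a - (z : D) ∈ RingHom.ker φ := by
      rw [RingHom.mem_ker, map_sub, map_intCast, hz, sub_self]
    rw [hk, RingHom.mem_ker, map_sub, map_intCast, sub_eq_zero] at this
    rw [this, hz]
  · obtain ⟨φ, hφ⟩ := exists_hom_of_nm_eq m.1 (m.2.trans hF.symm)
    exact ⟨φ, Subtype.ext (Subtype.ext hφ)⟩

theorem isPrimePow_nm (m : MaxId D) : IsPrimePow (nm D m) := by
  haveI := finite_quotient m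
  haveI := m.2
  letI := Ideal.Quotient.field m.1
  obtain ⟨p, hp⟩ := CharP.exists (D ⧸ m.1)
  haveI := Fintype.ofFinite (D ⧸ m.1)
  obtain ⟨n, hprime, hcard⟩ := FiniteField.card (D ⧸ m.1) p
  rw [nm, Nat.card_eq_fintype_card, hcard]
  exact hprime.prime.isPrimePow.pow n.ne_zero

theorem ringKrullDim_quotient_le_pred [IsDomain D] {a : D} (ha : a ≠ 0) {n : ℕ}
    (hdim : ringKrullDim D ≤ (n + 1 : ℕ)) : ringKrullDim (D ⧸ Ideal.span {a}) ≤ n := by
  have h := ringKrullDim_quotient_succ_le_of_nonZeroDivisor (mem_nonZeroDivisors_of_ne_zero ha)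
  by_contra hlt
  have hn : ((n + 1 : ℕ) : WithBot ℕ∞) ≤ ringKrullDim (D ⧸ Ideal.span {a}) := by
    rw [not_le] at hlt
    revert hlt
    generalize ringKrullDim (D ⧸ Ideal.span {a}) = x
    induction x with
    | bot => simp
    | coe y =>
      induction y using ENat.recTopCoe with
      | top => simp
      | coe m => norm_cast; omega
  have := ((add_le_add hn (le_refl (1 : WithBot ℕ∞))).trans h).trans hdim
  norm_cast at this
  omega

omit [Algebra.FiniteType ℤ D] in
theorem card_hom_eq_quotient_span {F : Type v} [CommRing F] {a : D} :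
    Nat.card {φ : D →+* F // φ a = 0} = Nat.card (D ⧸ Ideal.span {a} →+* F) :=
  Nat.card_congr
    { toFun := fun φ => Ideal.Quotient.lift _ φ.1 fun x hx => by
        obtain ⟨c, rfl⟩ := Ideal.mem_span_singleton'.mp hx
        rw [map_mul, φ.2, mul_zero]
      invFun := fun χ => ⟨χ.comp (Ideal.Quotient.mk _), by
        rw [RingHom.comp_apply, Ideal.Quotient.eq_zero_iff_mem.mpr (Ideal.mem_span_singleton_self a), map_zero]⟩
      left_inv := fun φ => Subtype.ext (RingHom.ext fun x => rfl)
      right_inv := fun χ => Ideal.Quotient.ringHom_ext (RingHom.ext fun x => rfl) }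

theorem finiteType_quotient (I : Ideal D) : @Algebra.FiniteType ℤ (D ⧸ I) _ _ (Ring.toIntAlgebra _) :=
  Algebra.FiniteType.of_surjective (Ideal.Quotient.mk I).toIntAlgHom Ideal.Quotient.mk_surjective

/-- A domain of characteristic zero has few points in every finite field. -/
theorem exists_card_hom_le_pred [IsDomain D] [CharZero D] {n : ℕ} (hdim : ringKrullDim D ≤ (n + 1 : ℕ)) :
    ∃ C : ℕ, ∀ (F : Type v) [Field F] [Finite F], Nat.card (D →+* F) ≤ C * Nat.card F ^ n := by
  classical
  obtain ⟨c, p₀, hc⟩ := exists_card_hom_le.{u, v} hdim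
  have hsmall : ∀ p : ℕ, ∃ C : ℕ, p.Prime → ∀ (F : Type v) [Field F] [Finite F] [CharP F p],
      Nat.card (D →+* F) ≤ C * Nat.card F ^ n := fun p => by
    by_cases hp : p.Prime
    swap
    · exact ⟨0, fun h => absurd h hp⟩
    haveI := finiteType_quotient (Ideal.span {(p : D)})
    obtain ⟨c', p', hc'⟩ := exists_card_hom_le.{u, v} (ringKrullDim_quotient_le_pred (a := (p : D))
      (Nat.cast_ne_zero.mpr hp.ne_zero) hdim)
    refine ⟨c', fun _ F _ _ _ => le_trans (le_of_eq ?_) (hc' p hp F).2.1⟩
    rw [← card_hom_eq_quotient_span]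
    exact Nat.card_congr (Equiv.subtypeUnivEquiv fun φ : D →+* F => by rw [map_natCast, CharP.cast_eq_zero]).symm
  choose C hC using hsmall
  refine ⟨c + ∑ p ∈ Finset.range p₀, C p, fun F _ _ => ?_⟩
  obtain ⟨p, hp⟩ := CharP.exists F
  have hprime : p.Prime := CharP.char_is_prime F p
  haveI := hp
  by_cases hlt : p < p₀
  · refine (hC p hprime F).trans (Nat.mul_le_mul_right _ ?_)
    exact le_add_of_nonneg_of_le (Nat.zero_le _)
      (Finset.single_le_sum (fun _ _ => Nat.zero_le _) (Finset.mem_range.mpr hlt))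
  · refine le_trans ?_ (Nat.mul_le_mul_right _ (Nat.le_add_right c _))
    have h := (hc p hprime F).2.2 (not_lt.mp hlt)
    rw [pow_succ, ← mul_assoc] at h
    exact Nat.le_of_mul_le_mul_right h Nat.card_pos

end Groth.L03.ZetaCont
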