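import Groth.Agent.L11.Zeta.Euler
import Mathlib.NumberTheory.LSeries.Deriv
import Mathlib.Analysis.SpecialFunctions.Complex.LogBounds
import Mathlib.Analysis.Complex.LocallyUniformLimit
import Mathlib.Analysis.Normed.Group.Tannery
import Mathlib.NumberTheory.LSeries.Linearity
import Mathlib.Analysis.SpecialFunctions.Log.Summable

/-!
Euler products as exponentials of the sums over the primes.
-/

set_option autoImplicit false

open Complex Filter Topology

namespace Groth.L03.ZetaCont

open Groth.L11.Zeta (norm' cweight summable_cweight)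

/-- The half plane. -/
def halfPlane (a : ℝ) : Set ℂ := {s | a < s.re}

theorem isOpen_halfPlane (a : ℝ) : IsOpen (halfPlane a) := isOpen_lt continuous_const continuous_re

variable {ι : Type*} {N : ι → ℕ}

theorem norm_cweight (h2 : ∀ x, 2 ≤ N x) (s : ℂ) (x : ι) : ‖cweight N s x‖ = (N x : ℝ) ^ (-s.re) := by
  rw [cweight, norm_natCast_cpow_of_pos (by have := h2 x; omega), neg_re]

theorem norm_cweight_le (h2 : ∀ x, 2 ≤ N x) {σ : ℝ} {s : ℂ} (hs : σ ≤ s.re) (x : ι) :
    ‖cweight N s x‖ ≤ (N x : ℝ) ^ (-σ) := by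
  rw [norm_cweight h2]
  exact Real.rpow_le_rpow_of_exponent_le (by have := h2 x; exact_mod_cast (by omega : 1 ≤ N x)) (by linarith)

theorem norm_cweight_lt_one (h2 : ∀ x, 2 ≤ N x) {s : ℂ} (hs : 0 < s.re) (x : ι) : ‖cweight N s x‖ < 1 := by
  rw [norm_cweight h2]
  exact Real.rpow_lt_one_of_one_lt_of_neg (by have := h2 x; exact_mod_cast (by omega : 1 < N x)) (by linarith)

theorem summable_cweight_single (h2 : ∀ x, 2 ≤ N x) {σ : ℝ} (hsum : Summable fun x => (N x : ℝ) ^ (-σ)) {s : ℂ}
    (hs : σ ≤ s.re) : Summable fun x => cweight N s x :=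
  hsum.of_norm_bounded fun x => norm_cweight_le h2 hs x

theorem summable_neg_log (h2 : ∀ x, 2 ≤ N x) {σ : ℝ} (hσ : 0 < σ) (hsum : Summable fun x => (N x : ℝ) ^ (-σ))
    {s : ℂ} (hs : σ ≤ s.re) : Summable fun x => -log (1 - cweight N s x) := by
  have h := summable_cweight_single h2 hsum hs
  have := Complex.summable_log_one_add_of_summable h.neg
  simpa [sub_eq_add_neg] using this.neg

/-- The Euler product as an exponential. -/
theorem tsum_eq_exp (h2 : ∀ x, 2 ≤ N x) {σ : ℝ} (hσ : 0 < σ) (hsum : Summable fun x => (N x : ℝ) ^ (-σ))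
    {s : ℂ} (hs : σ ≤ s.re) :
    ∑' α : ι →₀ ℕ, (norm' N α : ℂ) ^ (-s) = exp (∑' x, -log (1 - cweight N s x)) := by
  classical
  set F : (ι →₀ ℕ) → ℂ := fun α => (norm' N α : ℂ) ^ (-s)
  have hF : Summable F := summable_cweight h2 hσ hsum hs
  have hw : ∀ x, ‖cweight N s x‖ < 1 := norm_cweight_lt_one h2 (hσ.trans_le hs)
  have hFs : ∀ α, F α = α.prod fun x m => cweight N s x ^ m := fun α => Groth.L11.Zeta.cpow_norm' h2 s α
  have hfin : ∀ S : Finset ι,
      (∑' α, {α : ι →₀ ℕ | α.support ⊆ S}.indicator F α) = ∏ x ∈ S, (1 - cweight N s x)⁻¹ := by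
    intro S
    induction S using Finset.induction_on with
    | empty =>
      rw [tsum_eq_single 0 fun α hα => Set.indicator_of_notMem (by simpa using hα) _, Finset.prod_empty,
        Set.indicator_of_mem (by simp), hFs]
      simp
    | insert a S ha ih =>
      rw [← tsum_subtype]
      let e : ℕ × {α : ι →₀ ℕ | α.support ⊆ S} ≃ {α : ι →₀ ℕ | α.support ⊆ insert a S} :=
        { toFun := fun z => ⟨Finsupp.single a z.1 + z.2.1, by
            refine Finsupp.support_add.trans (Finset.union_subset ?_ (z.2.2.trans (Finset.subset_insert _ _)))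
            exact Finsupp.support_single_subset.trans (by simp)⟩
          invFun := fun α => (α.1 a, ⟨α.1.erase a, by
            change (α.1.erase a).support ⊆ S
            rw [Finsupp.support_erase]
            intro x hx
            obtain ⟨hxa, hx⟩ := Finset.mem_erase.mp hx
            exact (Finset.mem_insert.mp (α.2 hx)).resolve_left hxa⟩)
          left_inv := fun z => by
            have hz : z.2.1 a = 0 := Finsupp.notMem_support_iff.mp fun h => ha (z.2.2 h)
            refine Prod.ext (by simp [hz]) (Subtype.ext ?_)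
            change (Finsupp.single a z.1 + z.2.1).erase a = z.2.1
            rw [Finsupp.erase_add, Finsupp.erase_single, zero_add, Finsupp.erase_of_notMem_support fun h => ha (z.2.2 h)]
          right_inv := fun α => Subtype.ext (Finsupp.single_add_erase a α.1) }
      have hterm : ∀ z, F (e z).1 = cweight N s a ^ z.1 * F z.2.1 := fun z => by
        simp only [hFs]
        change (Finsupp.single a z.1 + z.2.1).prod _ = _
        rw [Finsupp.prod_add_index' (fun _ => pow_zero _) (fun x m m' => pow_add _ m m'),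
          Finsupp.prod_single_index (h := fun x m => cweight N s x ^ m) (pow_zero _)]
      rw [← e.tsum_eq, tsum_congr hterm, ← tsum_mul_tsum_of_summable_norm
        (f := fun n : ℕ => cweight N s a ^ n) (g := fun z : {α : ι →₀ ℕ | α.support ⊆ S} => F z.1)
        (by simpa [norm_pow] using summable_geometric_of_lt_one (norm_nonneg _) (hw a))
        (hF.norm.subtype _), tsum_geometric_of_norm_lt_one (hw a), tsum_subtype, ih, Finset.prod_insert ha]
  have hlim : Tendsto (fun S : Finset ι => ∑' α, {α : ι →₀ ℕ | α.support ⊆ S}.indicator F α) atTop (𝓝 (∑' α, F α)) := by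
    refine tendsto_tsum_of_dominated_convergence hF.norm (fun α => ?_) (Eventually.of_forall fun S α => ?_)
    · refine tendsto_const_nhds.congr' ((eventually_ge_atTop α.support).mono fun S hS => ?_)
      exact (Set.indicator_of_mem (show α ∈ {α : ι →₀ ℕ | α.support ⊆ S} from hS) F).symm
    · exact norm_indicator_le_norm_self _ _
  have hlog := (summable_neg_log h2 hσ hsum hs).hasSum
  have hexp : Tendsto (fun S : Finset ι => exp (∑ x ∈ S, -log (1 - cweight N s x))) atTop
      (𝓝 (exp (∑' x, -log (1 - cweight N s x)))) := (continuous_exp.tendsto _).comp hlog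
  refine tendsto_nhds_unique hlim (hexp.congr fun S => ?_)
  rw [hfin, exp_sum]
  refine Finset.prod_congr rfl fun x _ => ?_
  rw [exp_neg, exp_log]
  intro h
  have := hw x
  rw [← sub_eq_zero.mp h, norm_one] at this
  exact lt_irrefl _ this

/-- The remainder of the logarithm after the linear terms. -/
noncomputable def logRem (N : ι → ℕ) (s : ℂ) : ℂ := ∑' x, (-log (1 - cweight N s x) - cweight N s x)

theorem exp_split (h2 : ∀ x, 2 ≤ N x) {σ : ℝ} (hσ : 0 < σ) (hsum : Summable fun x => (N x : ℝ) ^ (-σ))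
    {s : ℂ} (hs : σ ≤ s.re) :
    ∑' α : ι →₀ ℕ, (norm' N α : ℂ) ^ (-s) = exp (∑' x, cweight N s x) * exp (logRem N s) := by
  rw [tsum_eq_exp h2 hσ hsum hs, ← exp_add, logRem,
    ← (summable_cweight_single h2 hsum hs).tsum_add
      ((summable_neg_log h2 hσ hsum hs).sub (summable_cweight_single h2 hsum hs))]
  simp

theorem differentiable_cweight (h2 : ∀ x, 2 ≤ N x) (x : ι) : Differentiable ℂ fun s => cweight N s x := by
  unfold cweight
  exact (differentiable_id.neg).const_cpow (Or.inl (Nat.cast_ne_zero.mpr (by have := h2 x; omega)))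

theorem analyticOnNhd_logRem (h2 : ∀ x, 2 ≤ N x) {a : ℝ} (ha : 0 ≤ a)
    (hsum : ∀ σ, a < σ → Summable fun x => (N x : ℝ) ^ (-(2 * σ))) :
    AnalyticOnNhd ℂ (logRem N) (halfPlane a) := by
  refine DifferentiableOn.analyticOnNhd (fun s₀ hs₀ => ?_) (isOpen_halfPlane a)
  obtain ⟨σ, h1, hσ⟩ := exists_between (show a < s₀.re from hs₀)
  have hσ0 : 0 < σ := ha.trans_lt h1
  have hdiff : DifferentiableOn ℂ (logRem N) (halfPlane σ) := by
    unfold logRem
    refine Complex.differentiableOn_tsum_of_summable_norm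
      ((hsum σ h1).mul_left ((1 - (2 : ℝ) ^ (-σ))⁻¹)) (fun x => ?_) (isOpen_halfPlane σ) fun x s hs => ?_
    · intro s hs
      have hw := norm_cweight_lt_one h2 (hσ0.trans (show σ < s.re from hs)) x
      refine (DifferentiableAt.sub (DifferentiableAt.neg (DifferentiableAt.clog ?_ ?_))
        (differentiable_cweight h2 x s)).differentiableWithinAt
      · exact (differentiableAt_const _).sub (differentiable_cweight h2 x s)
      · rw [sub_eq_add_neg]
        exact Complex.mem_slitPlane_of_norm_lt_one (by rwa [norm_neg])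
    · set z := cweight N s x
      have hz : ‖z‖ ≤ (N x : ℝ) ^ (-σ) := norm_cweight_le h2 (le_of_lt hs) x
      have h2' : (N x : ℝ) ^ (-σ) ≤ (2 : ℝ) ^ (-σ) :=
        Real.rpow_le_rpow_of_nonpos (by norm_num) (by exact_mod_cast h2 x) (by linarith)
      have h3 : (2 : ℝ) ^ (-σ) < 1 := Real.rpow_lt_one_of_one_lt_of_neg (by norm_num) (by linarith)
      have hb := Complex.norm_log_one_add_sub_self_le (z := -z) (by rw [norm_neg]; linarith)
      rw [norm_neg] at hb
      rw [show -log (1 - z) - z = -(log (1 + -z) - -z) by rw [← sub_eq_add_neg]; ring, norm_neg]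
      refine hb.trans ?_
      have hpos : 0 < 1 - (2 : ℝ) ^ (-σ) := by linarith
      have h4 : (1 - ‖z‖)⁻¹ ≤ (1 - (2 : ℝ) ^ (-σ))⁻¹ := inv_anti₀ hpos (by linarith)
      have h5 : ‖z‖ ^ 2 ≤ (N x : ℝ) ^ (-(2 * σ)) := by
        rw [show -(2 * σ) = -σ + -σ by ring, Real.rpow_add (by have := h2 x; exact_mod_cast (by omega : 0 < N x)), sq]
        exact mul_le_mul hz hz (norm_nonneg _) (by positivity)
      have h6 : (0 : ℝ) ≤ (1 - ‖z‖)⁻¹ := inv_nonneg.mpr (by linarith [norm_nonneg z])
      calc ‖z‖ ^ 2 * (1 - ‖z‖)⁻¹ / 2 ≤ ‖z‖ ^ 2 * (1 - ‖z‖)⁻¹ := by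
            have : 0 ≤ ‖z‖ ^ 2 * (1 - ‖z‖)⁻¹ := by positivity
            linarith
        _ ≤ (N x : ℝ) ^ (-(2 * σ)) * (1 - (2 : ℝ) ^ (-σ))⁻¹ := mul_le_mul h5 h4 h6 (by positivity)
        _ = _ := mul_comm _ _
  exact (hdiff.differentiableAt ((isOpen_halfPlane σ).mem_nhds hσ)).differentiableWithinAt

/-- The number of indices of given norm. -/
noncomputable def normCount (N : ι → ℕ) (n : ℕ) : ℂ := (Nat.card {x : ι // N x = n} : ℂ)

theorem finite_normCount (h2 : ∀ x, 2 ≤ N x) {σ : ℝ} (hsum : Summable fun x => (N x : ℝ) ^ (-σ)) (n : ℕ) :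
    Finite {x : ι // N x = n} := by
  by_contra h
  rw [not_finite_iff_infinite] at h
  have hs := hsum.subtype {x | N x = n}
  have : (fun x : {x : ι // N x = n} => (N x.1 : ℝ) ^ (-σ)) = fun _ => (n : ℝ) ^ (-σ) := funext fun x => by rw [x.2]
  have hs' : Summable (fun x : {x : ι // N x = n} => (N x.1 : ℝ) ^ (-σ)) := hs
  rw [this, summable_const_iff] at hs'
  obtain ⟨x⟩ := h.nonempty
  have hn : (0 : ℝ) < n := by
    have := h2 x.1
    have := x.2
    exact_mod_cast (by omega : 0 < n)
  exact (Real.rpow_pos_of_pos hn _).ne' hs'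

theorem tsum_cweight_eq_lseries (h2 : ∀ x, 2 ≤ N x) {σ : ℝ} (hsum : Summable fun x => (N x : ℝ) ^ (-σ)) {s : ℂ}
    (hs : σ ≤ s.re) :
    LSeriesSummable (normCount N) s ∧ ∑' x, cweight N s x = LSeries (normCount N) s := by
  have hS := summable_cweight_single h2 hsum hs
  let e := Equiv.sigmaFiberEquiv N
  have hS' : Summable fun z : Σ n, {x : ι // N x = n} => cweight N s z.2.1 := (e.summable_iff).mpr hS
  have hfib : ∀ n, LSeries.term (normCount N) s n = ∑' x : {x : ι // N x = n}, cweight N s x.1 := fun n => by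
    haveI := finite_normCount h2 hsum n
    haveI := Fintype.ofFinite {x : ι // N x = n}
    rw [tsum_fintype, Finset.sum_congr rfl (fun (x : {x : ι // N x = n}) _ =>
      (show cweight N s x.1 = (n : ℂ) ^ (-s) by rw [cweight, x.2])), Finset.sum_const, Finset.card_univ, nsmul_eq_mul,
      ← Nat.card_eq_fintype_card]
    rcases eq_or_ne n 0 with rfl | hn
    · haveI : IsEmpty {x : ι // N x = 0} := ⟨fun x => by have := h2 x.1; have := x.2; omega⟩
      simp
    · rw [LSeries.term_of_ne_zero hn, cpow_neg, ← div_eq_mul_inv]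
      rfl
  refine ⟨?_, ?_⟩
  · change Summable (LSeries.term (normCount N) s)
    rw [funext hfib]
    exact hS'.sigma
  · rw [LSeries, funext hfib, ← e.tsum_eq fun x => cweight N s x]
    exact hS'.tsum_sigma

theorem analyticOnNhd_lseries {d : ℕ → ℂ} {a : ℝ} (h : ∀ σ : ℝ, a < σ → LSeriesSummable d (σ : ℂ)) :
    AnalyticOnNhd ℂ (LSeries d) (halfPlane a) := fun s hs => by
  refine LSeries_analyticOnNhd d s (lt_of_le_of_lt ?_ (EReal.coe_lt_coe_iff.mpr hs))
  exact LSeries.abscissaOfAbsConv_le_of_forall_lt_LSeriesSummable h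

end Groth.L03.ZetaCont
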