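import Mathlib.NumberTheory.NumberField.CanonicalEmbedding.FundamentalCone

/-!
A Lipschitz partition of unity for the action of the units on the mixed space.
-/

set_option autoImplicit false

open NumberField NumberField.InfinitePlace NumberField.mixedEmbedding NumberField.Units
  NumberField.Units.dirichletUnitTheorem Module

namespace Groth.L03.ZetaCont

/-- The tent function. -/
noncomputable def tent (y : ℝ) : ℝ := max 0 (1 - |y|)

theorem tent_nonneg (y : ℝ) : 0 ≤ tent y := le_max_left _ _

theorem tent_le_one (y : ℝ) : tent y ≤ 1 :=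
  max_le zero_le_one (by linarith [abs_nonneg y])

theorem abs_le_of_tent_ne_zero {y : ℝ} (h : tent y ≠ 0) : |y| ≤ 1 := by
  by_contra hy
  exact h (max_eq_left (by linarith [not_le.mp hy]))

theorem abs_tent_sub_le (a b : ℝ) : |tent a - tent b| ≤ |a - b| := by
  unfold tent
  refine (abs_max_sub_max_le_max _ _ _ _).trans ?_
  simp only [sub_self, abs_zero]
  refine max_le (abs_nonneg _) ?_
  rw [show 1 - |a| - (1 - |b|) = |b| - |a| by ring, abs_sub_comm a b]
  exact abs_abs_sub_abs_le_abs_sub b a

theorem tent_add_eq_zero {y : ℝ} {k : ℤ} (h : k ∉ ({-⌊y⌋, -⌊y⌋ - 1} : Finset ℤ)) : tent (y + k) = 0 := by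
  simp only [Finset.mem_insert, Finset.mem_singleton, not_or] at h
  have h0 := Int.floor_le y
  have h1 := Int.lt_floor_add_one y
  rcases lt_or_gt_of_ne h.1 with hk | hk
  · have : k ≤ -⌊y⌋ - 2 := by omega
    have : (k : ℝ) ≤ -⌊y⌋ - 2 := by exact_mod_cast this
    exact max_eq_left (by linarith [neg_le_abs (y + k)])
  · have : -⌊y⌋ + 1 ≤ k := by omega
    have : -(⌊y⌋ : ℝ) + 1 ≤ k := by exact_mod_cast this
    exact max_eq_left (by linarith [le_abs_self (y + k)])

theorem sum_tent (y : ℝ) : ∑ k ∈ ({-⌊y⌋, -⌊y⌋ - 1} : Finset ℤ), tent (y + k) = 1 := by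
  rw [Finset.sum_pair (by omega)]
  push_cast
  have h0 := Int.floor_le y
  have h1 := Int.lt_floor_add_one y
  rw [tent, tent, abs_of_nonneg (by linarith : (0 : ℝ) ≤ y + -(⌊y⌋ : ℝ)),
    abs_of_nonpos (by linarith : y + (-(⌊y⌋ : ℝ) - 1) ≤ 0), max_eq_right (by linarith), max_eq_right (by linarith)]
  ring

/-- The product of tents. -/
noncomputable def tentProd {ι : Type*} [Fintype ι] (θ : ι → ℝ) : ℝ := ∏ i, tent (θ i)

variable {ι : Type*} [Fintype ι]

theorem tentProd_nonneg (θ : ι → ℝ) : 0 ≤ tentProd θ := Finset.prod_nonneg fun _ _ => tent_nonneg _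

theorem tentProd_le_one (θ : ι → ℝ) : tentProd θ ≤ 1 :=
  Finset.prod_le_one (fun _ _ => tent_nonneg _) fun _ _ => tent_le_one _

theorem abs_tentProd_sub_le (a b : ι → ℝ) : |tentProd a - tentProd b| ≤ ∑ i, |a i - b i| := by
  classical
  unfold tentProd
  generalize (Finset.univ : Finset ι) = s
  induction s using Finset.induction_on with
  | empty => simp
  | insert i s hi ih =>
    rw [Finset.prod_insert hi, Finset.prod_insert hi, Finset.sum_insert hi,
      show tent (a i) * ∏ x ∈ s, tent (a x) - tent (b i) * ∏ x ∈ s, tent (b x) =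
        (tent (a i) - tent (b i)) * ∏ x ∈ s, tent (a x) + tent (b i) * (∏ x ∈ s, tent (a x) - ∏ x ∈ s, tent (b x))
        by ring]
    refine (abs_add_le _ _).trans (add_le_add ?_ ?_)
    · rw [abs_mul]
      refine le_trans ?_ (abs_tent_sub_le _ _)
      refine mul_le_of_le_one_right (abs_nonneg _) ?_
      rw [abs_of_nonneg (Finset.prod_nonneg fun _ _ => tent_nonneg _)]
      exact Finset.prod_le_one (fun _ _ => tent_nonneg _) fun _ _ => tent_le_one _
    · rw [abs_mul, abs_of_nonneg (tent_nonneg _)]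
      exact (mul_le_of_le_one_left (abs_nonneg _) (tent_le_one _)).trans ih

theorem hasSum_tentProd (θ : ι → ℝ) : HasSum (fun k : ι → ℤ => tentProd fun i => θ i + k i) 1 := by
  classical
  let t : ι → Finset ℤ := fun i => {-⌊θ i⌋, -⌊θ i⌋ - 1}
  have h : ∀ k ∉ Fintype.piFinset t, tentProd (fun i => θ i + k i) = 0 := fun k hk => by
    rw [Fintype.mem_piFinset, not_forall] at hk
    obtain ⟨i, hi⟩ := hk
    exact Finset.prod_eq_zero (Finset.mem_univ i) (tent_add_eq_zero hi)
  have h1 : (∑ k ∈ Fintype.piFinset t, tentProd fun i => θ i + k i) = 1 := by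
    simp only [tentProd]
    rw [← Finset.prod_univ_sum t fun i (k : ℤ) => tent (θ i + k)]
    exact Finset.prod_eq_one fun i _ => sum_tent (θ i)
  exact h1 ▸ hasSum_sum_of_ne_finset_zero h

variable {K : Type*} [Field K] [NumberField K]

open scoped Classical in
/-- Coordinates on the log space along a fundamental system of units. -/
noncomputable def unitCoord : logSpace K →ₗ[ℝ] (Fin (rank K) → ℝ) :=
  (((basisUnitLattice K).ofZLatticeBasis ℝ (unitLattice K)).equivFun : logSpace K →ₗ[ℝ] (Fin (rank K) → ℝ))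

/-- The weight of a point of the mixed space. -/
noncomputable def weight (x : mixedSpace K) : ℝ :=
  if mixedEmbedding.norm x = 0 then 0 else tentProd (unitCoord (logMap x))

theorem weight_nonneg (x : mixedSpace K) : 0 ≤ weight x := by
  unfold weight
  split_ifs
  exacts [le_rfl, tentProd_nonneg _]

theorem weight_le_one (x : mixedSpace K) : weight x ≤ 1 := by
  unfold weight
  split_ifs
  exacts [zero_le_one, tentProd_le_one _]

theorem norm_ne_zero_of_weight {x : mixedSpace K} (h : weight x ≠ 0) : mixedEmbedding.norm x ≠ 0 :=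
  fun h0 => h (if_pos h0)

theorem weight_smul {x : mixedSpace K} {c : ℝ} (hc : c ≠ 0) : weight (c • x) = weight x := by
  by_cases h : mixedEmbedding.norm x = 0
  · rw [weight, weight, if_pos (by rw [mixedEmbedding.norm_smul, h, mul_zero]), if_pos h]
  · rw [weight, weight, if_neg, if_neg h, logMap_real_smul h hc]
    rw [mixedEmbedding.norm_smul]
    exact mul_ne_zero (pow_ne_zero _ (abs_ne_zero.mpr hc)) h

/-- The units split as torsion and exponents. -/
noncomputable def unitsEquiv : torsion K × (Fin (rank K) → ℤ) ≃ (𝓞 K)ˣ :=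
  Equiv.ofBijective (fun ζe => (ζe.1 : (𝓞 K)ˣ) * ∏ i, (fundSystem K i) ^ (ζe.2 i))
    ⟨fun a b h => (exist_unique_eq_mul_prod K _).unique rfl h, fun x => by
      obtain ⟨ζe, h, -⟩ := exist_unique_eq_mul_prod K x
      exact ⟨ζe, h.symm⟩⟩

open scoped Classical in
theorem unitCoord_logEmbedding (z : torsion K × (Fin (rank K) → ℤ)) :
    unitCoord (logEmbedding K (Additive.ofMul (unitsEquiv z))) = fun i => (z.2 i : ℝ) := by
  have hb : ∀ i, logEmbedding K (Additive.ofMul (fundSystem K i)) =
      (basisUnitLattice K).ofZLatticeBasis ℝ (unitLattice K) i := fun i => by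
    rw [Basis.ofZLatticeBasis_apply, logEmbedding_fundSystem]
  have hζ : logEmbedding K (Additive.ofMul (z.1 : (𝓞 K)ˣ)) = 0 := logEmbedding_eq_zero_iff.mpr z.1.2
  rw [show unitsEquiv z = (z.1 : (𝓞 K)ˣ) * ∏ i, (fundSystem K i) ^ (z.2 i) from rfl, ofMul_mul, map_add, hζ,
    zero_add, ofMul_prod, map_sum, map_sum]
  ext j
  simp only [Finset.sum_apply, ofMul_zpow, map_zsmul, hb]
  simp [unitCoord, Finsupp.single_apply, Basis.equivFun_self]

theorem hasSum_weight_smul {x : mixedSpace K} (hx : mixedEmbedding.norm x ≠ 0) :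
    HasSum (fun u : (𝓞 K)ˣ => weight (u • x)) (torsionOrder K) := by
  classical
  rw [← unitsEquiv.hasSum_iff]
  have e : ∀ z : torsion K × (Fin (rank K) → ℤ), weight (unitsEquiv z • x) =
      tentProd fun i => unitCoord (logMap x) i + z.2 i := fun z => by
    rw [weight, if_neg (by rw [norm_unit_smul]; exact hx), logMap_unit_smul _ hx, map_add, unitCoord_logEmbedding]
    exact congrArg tentProd (funext fun i => by rw [Pi.add_apply, add_comm])
  simp only [Function.comp_def, e]
  let θ := unitCoord (logMap x)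
  let g : (Fin (rank K) → ℤ) → ℝ := fun k => tentProd fun i => θ i + k i
  have hg := hasSum_tentProd θ
  haveI : Fintype (torsion K) := Fintype.ofFinite _
  have hs : Summable fun z : torsion K × (Fin (rank K) → ℤ) => g z.2 := by
    refine (summable_prod_of_nonneg fun z => tentProd_nonneg _).mpr ⟨fun _ => hg.summable, Summable.of_finite⟩
  refine hs.hasSum_iff.mpr ?_
  rw [hs.tsum_prod]
  simp only [g, hg.tsum_eq, tsum_fintype, Finset.sum_const, Finset.card_univ, nsmul_eq_mul, mul_one]
  rw [torsionOrder, Nat.card_eq_fintype_card]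

end Groth.L03.ZetaCont
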